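import Cfsg.Agent.Char.Constituents
import Cfsg.Agent.Char.FrobeniusSchur
import Cfsg.Agent.Char.Kernel
import Mathlib.LinearAlgebra.Matrix.Adjugate
import Mathlib.GroupTheory.Abelianization.Defs

/-!
# Three-dimensional representations of perfect groups

The square of such a character contains the conjugate character, and the values satisfy the
identities of a matrix with determinant one.
-/

set_option autoImplicit false
set_option linter.style.haveILetI false

namespace CfsgLib.Char.FourDrop

open scoped ComplexConjugate Kronecker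
open Matrix

universe u

/-- The matrix of a representation on a coordinate space. -/
noncomputable def mat {G : Type u} [Group G] {n : ℕ} (ρ : Representation ℂ G (Fin n → ℂ)) (g : G) :
    Matrix (Fin n) (Fin n) ℂ :=
  LinearMap.toMatrix' (ρ g)

variable {G : Type u} [Group G]

theorem mat_mul {n : ℕ} (ρ : Representation ℂ G (Fin n → ℂ)) (g h : G) :
    mat ρ (g * h) = mat ρ g * mat ρ h := by
  simp only [mat, map_mul, Module.End.mul_eq_comp, LinearMap.toMatrix'_comp]

theorem mat_one {n : ℕ} (ρ : Representation ℂ G (Fin n → ℂ)) : mat ρ 1 = 1 := by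
  simp [mat, Module.End.one_eq_id]

theorem trace_mat {n : ℕ} (ρ : Representation ℂ G (Fin n → ℂ)) (g : G) :
    (mat ρ g).trace = ρ.character g :=
  ((LinearMap.trace_eq_matrix_trace ℂ (Pi.basisFun ℂ (Fin n)) _).trans
    (by rw [LinearMap.toMatrix_eq_toMatrix']; rfl)).symm

theorem det_mat_eq_one (hperf : commutator G = ⊤) {n : ℕ} (ρ : Representation ℂ G (Fin n → ℂ))
    (g : G) : (mat ρ g).det = 1 := by
  let d : G →* ℂ :=
    { toFun := fun x => (mat ρ x).det
      map_one' := by rw [mat_one, det_one]
      map_mul' := fun x y => by rw [mat_mul, det_mul] }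
  have h : d.toHomUnits g = 1 := by
    refine MonoidHom.mem_ker.1 ((Abelianization.commutator_subset_ker d.toHomUnits) ?_)
    rw [hperf]; trivial
  exact congrArg Units.val h

/-- The trace of the adjugate of a matrix of size three. -/
theorem trace_adjugate_three (A : Matrix (Fin 3) (Fin 3) ℂ) :
    A.adjugate.trace = (A.trace * A.trace - (A * A).trace) / 2 := by
  rw [adjugate_fin_three]
  simp [trace_fin_three, Matrix.mul_apply, Fin.sum_univ_three]
  ring

/-- For determinant one the conjugate value is the second elementary symmetric function. -/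
theorem conj_apply_eq [Finite G] (hperf : commutator G = ⊤) (ρ : Representation ℂ G (Fin 3 → ℂ))
    (g : G) : conj (ρ.character g) = (ρ.character g * ρ.character g - ρ.character (g * g)) / 2 := by
  have h1 : mat ρ g⁻¹ = (mat ρ g).adjugate := by
    have h2 : mat ρ g⁻¹ * mat ρ g = 1 := by rw [← mat_mul, inv_mul_cancel, mat_one]
    calc mat ρ g⁻¹ = mat ρ g⁻¹ * (mat ρ g * (mat ρ g).adjugate) := by
          rw [mul_adjugate, det_mat_eq_one hperf, one_smul, mul_one]
      _ = (mat ρ g).adjugate := by rw [← mul_assoc, h2, one_mul]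
  rw [← IsCharacter.apply_inv (isCharacter_character ρ), ← trace_mat, h1, trace_adjugate_three,
    ← mat_mul, trace_mat, trace_mat]

/-- The sign tensor of size three. -/
def eps (x : (Fin 3 × Fin 3) × Fin 3) : ℂ :=
  if x.1.1 = x.1.2 ∨ x.1.2 = x.2 ∨ x.1.1 = x.2 then 0
  else if x.1.2 = x.1.1 + 1 then 1 else -1

theorem kronecker_mulVec_eps (A : Matrix (Fin 3) (Fin 3) ℂ) :
    ((A ⊗ₖ A) ⊗ₖ A) *ᵥ eps = A.det • eps := by
  ext ⟨⟨i, j⟩, k⟩
  simp only [Matrix.mulVec, dotProduct, Fintype.sum_prod_type, Fin.sum_univ_three,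
    Matrix.kroneckerMap_apply, Pi.smul_apply, smul_eq_mul, det_fin_three]
  fin_cases i <;> fin_cases j <;> fin_cases k <;> simp [eps] <;> ring

/-- The third moment is nonzero. -/
theorem classInner_sq_conj_ne_zero [Fintype G] (hperf : commutator G = ⊤)
    (ρ : Representation ℂ G (Fin 3 → ℂ)) :
    Cfsg.classInner (ρ.character * ρ.character) (fun g => conj (ρ.character g)) ≠ 0 := by
  classical
  let K : G → Matrix ((Fin 3 × Fin 3) × Fin 3) ((Fin 3 × Fin 3) × Fin 3) ℂ :=
    fun g => (mat ρ g ⊗ₖ mat ρ g) ⊗ₖ mat ρ g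
  have hK : ∀ g h, K g * K h = K (g * h) := fun g h => by
    simp only [K, ← Matrix.mul_kronecker_mul, mat_mul]
  let T : Matrix ((Fin 3 × Fin 3) × Fin 3) ((Fin 3 × Fin 3) × Fin 3) ℂ :=
    (Nat.card G : ℂ)⁻¹ • ∑ g : G, K g
  have hKT : ∀ g, K g * T = T := fun g => by
    simp only [T, Matrix.mul_smul, Finset.mul_sum, hK]
    congr 1
    exact Equiv.sum_comp (Equiv.mulLeft g) K
  have hT : T * T = T := by
    conv_lhs => arg 1; simp only [T]
    rw [smul_mul, Finset.sum_mul]
    simp only [hKT, Finset.sum_const, Finset.card_univ, ← Nat.card_eq_fintype_card,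
      ← Nat.cast_smul_eq_nsmul ℂ, smul_smul]
    rw [inv_mul_cancel₀ (by simp), one_smul]
  have htr : Cfsg.classInner (ρ.character * ρ.character) (fun g => conj (ρ.character g)) = T.trace := by
    simp [Cfsg.classInner, T, K, trace_mat, trace_sum, Matrix.trace_kronecker, Finset.mul_sum]
  rw [htr]
  intro h0
  have hfix : T *ᵥ eps = eps := by
    simp only [T, smul_mulVec, sum_mulVec, K, kronecker_mulVec_eps, det_mat_eq_one hperf, one_smul,
      Finset.sum_const, Finset.card_univ, ← Nat.card_eq_fintype_card, ← Nat.cast_smul_eq_nsmul ℂ,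
      smul_smul]
    rw [inv_mul_cancel₀ (by simp), one_smul]
  rw [exists_natCast_trace_eq_zero hT h0, zero_mulVec] at hfix
  have := congrFun hfix ((0, 1), 2)
  simp [eps] at this

/-- The square of a three-dimensional character contains the conjugate character. -/
theorem isCharacter_sq_sub [Fintype G] (hperf : commutator G = ⊤) {χ : G → ℂ}
    (hχ : Cfsg.IsIrrCharacter G χ) (h3 : χ 1 = 3) :
    Cfsg.IsCharacter G (χ * χ - fun g => conj (χ g)) ∧
      ∀ g, conj (χ g) = (χ g * χ g - χ (g * g)) / 2 := by
  obtain ⟨n, ρ, hρ, rfl⟩ := id hχ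
  obtain rfl : n = 3 := by
    rw [ρ.char_one, Module.finrank_fin_fun] at h3
    exact_mod_cast h3
  exact ⟨IsCharacter.sub_irr (IsCharacter.mul (isCharacter_character ρ) (isCharacter_character ρ))
    (IsIrrCharacter.conj hχ) (classInner_sq_conj_ne_zero hperf ρ), conj_apply_eq hperf ρ⟩

end CfsgLib.Char.FourDrop
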