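import Cfsg.Agent.Char.FourDrop.Parts

/-!
# Non-real three-dimensional characters do not occur

Three of them cannot have the same square, and then the weighted column sum is non-negative.
-/

set_option autoImplicit false
set_option linter.style.haveILetI false
set_option linter.unusedSectionVars false

namespace CfsgLib.Char.FourDrop

open scoped ComplexConjugate
open CfsgLib.ConstantDrop (Hyp)

/-- Two values with equal absolute value and equal `z * z - conj z`. -/
theorem pair_spec {a b : ℂ} (hab : a ≠ b) (hR : a * conj a = b * conj b)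
    (hw : a * a - conj a = b * b - conj b) :
    conj a = -b * (a + b) ∧ conj b = -a * (a + b) ∧ (a + b) ^ 3 = -1 := by
  have h1 : conj a - conj b = (a - b) * (a + b) := by linear_combination -hw
  have hd : a - b ≠ 0 := sub_ne_zero.2 hab
  have h2 : (a + b) * conj (a + b) = 1 := by
    have h := congrArg conj h1
    simp only [map_sub, map_mul, Complex.conj_conj] at h
    rw [h1] at h
    refine mul_left_cancel₀ hd ?_
    rw [mul_one, ← mul_assoc]
    exact h.symm
  have ha : conj a = -b * (a + b) := by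
    have h : (a - b) * (conj a + b * (a + b)) = 0 := by linear_combination hR - b * h1
    linear_combination (mul_eq_zero.1 h).resolve_left hd
  have hb : conj b = -a * (a + b) := by linear_combination ha - h1
  refine ⟨ha, hb, ?_⟩
  rw [map_add, ha, hb] at h2
  linear_combination -h2

/-- Three distinct such values are cube roots of unity with zero invariant. -/
theorem triple_spec {a b e : ℂ} (hab : a ≠ b) (hae : a ≠ e) (hbe : b ≠ e)
    (hR : a * conj a = b * conj b) (hw : a * a - conj a = b * b - conj b)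
    (hR' : a * conj a = e * conj e) (hw' : a * a - conj a = e * e - conj e) :
    conj a = a * a ∧ a ^ 3 = 1 := by
  obtain ⟨ha, -, h3⟩ := pair_spec hab hR hw
  obtain ⟨ha', -, h3'⟩ := pair_spec hae hR' hw'
  obtain ⟨-, -, h3''⟩ := pair_spec hbe (hR.symm.trans hR') (hw.symm.trans hw')
  have hs : (b - e) * (a + b + e) = 0 := by linear_combination ha - ha'
  have he : e = -a - b := by
    linear_combination (mul_eq_zero.1 hs).resolve_left (sub_ne_zero.2 hbe)
  subst he
  have hq : a ^ 3 = 1 := by linear_combination -h3''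
  have hb3 : b ^ 3 = 1 := by linear_combination -h3'
  have hd : (a - b) * (a * a + a * b + b * b) = 0 := by linear_combination hq - hb3
  refine ⟨?_, hq⟩
  linear_combination ha - (mul_eq_zero.1 hd).resolve_left (sub_ne_zero.2 hab)

theorem split_identity {a e : ℂ} (h : a ≠ e) (hR : a * conj a = e * conj e)
    (hw : a * a - conj a = e * e - conj e) :
    2 * (a - e) * (conj a - conj e) + 6 * (a * a * e + conj a * conj a * conj e)
      = 2 * (a * a * a + conj a * conj a * conj a) + 2 * (a * a * e + conj a * conj a * conj e)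
        + 2 * (e * e * a + conj e * conj e * conj a) := by
  obtain ⟨ha, he, h3⟩ := pair_spec h hR hw
  rw [ha, he]
  linear_combination (2 * e ^ 3 - 4 * a * e ^ 2 + 2 * a ^ 2 * e) * h3

universe u

variable {G : Type u} [Group G] [Finite G] {x : G}

/-- Three non-real ones with one square do not exist. -/
theorem sq_triple [Fintype G] (hx : x ≠ 1) (h : Hyp x 4) {χ θ η : G → ℂ} (hχ : IsThree x χ)
    (hθ : IsThree x θ) (hη : IsThree x η) (rχ : ¬ IsReal χ) (rθ : ¬ IsReal θ) (rη : ¬ IsReal η)
    (n1 : χ ≠ θ) (n2 : χ ≠ η) (n3 : θ ≠ η) (e1 : sq χ = sq θ) (e2 : sq χ = sq η) : False := by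
  have R : ∀ {φ ψ : G → ℂ}, IsThree x φ → IsThree x ψ → ¬ IsReal φ → ¬ IsReal ψ →
      ∀ g, φ g * conj (φ g) = ψ g * conj (ψ g) := fun hφ hψ rφ rψ g =>
    congrFun (mag_eq hx h hφ hψ rφ rψ) g
  have W : ∀ {φ ψ : G → ℂ}, sq φ = sq ψ → ∀ g, φ g * φ g - conj (φ g) = ψ g * ψ g - conj (ψ g) :=
    fun e g => by simpa [sq] using congrFun e g
  have e3 : sq θ = sq η := e1.symm.trans e2
  have htwo : ∀ g, χ g = θ g ∨ χ g = η g ∨ θ g = η g := by
    intro g
    by_contra! hc
    obtain ⟨hab, hae, hbe⟩ := hc
    obtain ⟨ca, a3⟩ := triple_spec hab hae hbe (R hχ hθ rχ rθ g) (W e1 g) (R hχ hη rχ rη g) (W e2 g)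
    obtain ⟨cb, b3⟩ := triple_spec hab.symm hbe hae (R hθ hχ rθ rχ g) (W e1.symm g)
      (R hθ hη rθ rη g) (W e3 g)
    have key : ∀ {φ : G → ℂ}, IsThree x φ → conj (φ g) = φ g * φ g → φ g ^ 3 = 1 →
        sq φ (g * g * (g * g)) = 6 * (φ g * φ g) := by
      intro φ hφ hc h3
      have hc4 := (isCharacter_sq_sub (perfect hx h) hφ.1 hφ.2.1).2
      have s1 : φ (g * g) = -(φ g * φ g) := by linear_combination 2 * hc4 g - 2 * hc
      have s2 : φ (g * g * (g * g)) = 3 * φ g := by
        have h2 := hc4 (g * g)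
        rw [s1] at h2
        simp only [map_neg, map_mul, hc] at h2
        linear_combination 2 * h2 + 3 * φ g * h3
      simp only [sq, Pi.sub_apply, Pi.mul_apply, s2, map_mul, map_ofNat, hc]
      ring
    have hsq : χ g * χ g = θ g * θ g := by
      have := congrFun e1 (g * g * (g * g))
      rw [key hχ ca a3, key hθ cb b3] at this
      exact mul_left_cancel₀ (by norm_num) this
    apply hab
    linear_combination -(χ g) * a3 + (θ g) * b3 + (χ g * χ g + θ g * θ g) * hsq
  have hpt : ∀ g, (χ g - θ g) * (conj (χ g) - conj (θ g)) + (χ g - η g) * (conj (χ g) - conj (η g))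
      + (θ g - η g) * (conj (θ g) - conj (η g))
      + 6 * (χ g * θ g * η g + conj (χ g) * conj (θ g) * conj (η g))
      = (χ g * χ g * θ g + conj (χ g) * conj (χ g) * conj (θ g))
        + (χ g * χ g * η g + conj (χ g) * conj (χ g) * conj (η g))
        + (θ g * θ g * χ g + conj (θ g) * conj (θ g) * conj (χ g))
        + (θ g * θ g * η g + conj (θ g) * conj (θ g) * conj (η g))
        + (η g * η g * χ g + conj (η g) * conj (η g) * conj (χ g))
        + (η g * η g * θ g + conj (η g) * conj (η g) * conj (θ g)) := by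
    intro g
    by_cases hab : χ g = θ g
    · by_cases hae : χ g = η g
      · rw [← hab, ← hae]; ring
      · rw [← hab]
        linear_combination split_identity hae (R hχ hη rχ rη g) (W e2 g)
    · rcases htwo g with e | e | e
      · exact absurd e hab
      · rw [← e]
        linear_combination split_identity hab (R hχ hθ rχ rθ g) (W e1 g)
      · rw [← e]
        linear_combination split_identity (fun e' => hab e'.symm) (R hθ hχ rθ rχ g) (W e1.symm g)
  have hN : (Fintype.card G : ℂ) ≠ 0 := Nat.cast_ne_zero.2 Fintype.card_ne_zero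
  have tot : ∀ {φ ψ : G → ℂ} {v : ℂ}, Cfsg.classInner φ ψ = v →
      ∑ g, φ g * conj (ψ g) = Fintype.card G * v := fun e => by
    rw [← e]
    simp [Cfsg.classInner, hN]
  have hd : ∀ {φ ψ : G → ℂ}, IsThree x φ → IsThree x ψ → φ ≠ ψ →
      ∑ g, (φ g - ψ g) * (conj (φ g) - conj (ψ g)) = Fintype.card G * 2 := by
    intro φ ψ hφ hψ hne
    have := tot (φ := φ - ψ) (ψ := φ - ψ) (v := 2) (by
      rw [classInner_sub_left, classInner_sub_right, classInner_sub_right,
        IsIrrCharacter.classInner_self hφ.1, IsIrrCharacter.classInner_self hψ.1,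
        IsIrrCharacter.classInner_of_ne hφ.1 hψ.1 hne,
        IsIrrCharacter.classInner_of_ne hψ.1 hφ.1 hne.symm]
      norm_num)
    simpa using this
  have hz : ∀ {φ ψ : G → ℂ}, IsThree x φ → IsThree x ψ → φ ≠ ψ → ¬ IsReal φ →
      ∑ g, (φ g * φ g * ψ g + conj (φ g) * conj (φ g) * conj (ψ g)) = 0 := by
    intro φ ψ hφ hψ hne rφ
    obtain ⟨hi, hs1, -⟩ := hφ.sq_irr hx h rφ
    have e0 : Cfsg.classInner (φ * φ) (fun g => conj (ψ g)) = 0 := by
      rw [show φ * φ = (fun g => conj (φ g)) + sq φ by simp [sq], classInner_add_left,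
        IsIrrCharacter.classInner_of_ne (IsIrrCharacter.conj hφ.1) (IsIrrCharacter.conj hψ.1)
          (fun e' => hne (funext fun g => by simpa using congrArg conj (congrFun e' g))),
        IsIrrCharacter.classInner_of_ne hi (IsIrrCharacter.conj hψ.1) (fun e' => by
          have := congrFun e' 1
          simp [hψ.2.1, hs1, map_ofNat] at this), add_zero]
    have h0 := tot e0
    simp only [Pi.mul_apply, Complex.conj_conj, mul_zero] at h0
    have h0' := congrArg conj h0
    simp only [map_sum, map_mul, map_zero] at h0'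
    rw [Finset.sum_add_distrib, h0, h0', add_zero]
  obtain ⟨m, hm⟩ := IsCharacter.exists_classInner_eq_natCast
    (IsCharacter.mul (IsIrrCharacter.isCharacter hχ.1) (IsIrrCharacter.isCharacter hθ.1))
    (IsIrrCharacter.conj hη.1)
  have h0 := tot hm
  simp only [Pi.mul_apply, Complex.conj_conj] at h0
  have h0' := congrArg conj h0
  simp only [map_sum, map_mul, map_natCast] at h0'
  have hsum := Finset.sum_congr (s₁ := (Finset.univ : Finset G)) rfl fun g _ => hpt g
  have hm' : ∑ g, (χ g * θ g * η g + conj (χ g) * conj (θ g) * conj (η g))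
      = Fintype.card G * m * 2 := by
    rw [Finset.sum_add_distrib, h0, h0']; ring
  simp only [Finset.sum_add_distrib (f := fun g => _ + _), Finset.sum_add_distrib, ← Finset.mul_sum]
    at hsum hm'
  have d1 := hd hχ hθ n1
  have d2 := hd hχ hη n2
  have d3 := hd hθ hη n3
  have z1 := hz hχ hθ n1 rχ
  have z2 := hz hχ hη n2 rχ
  have z3 := hz hθ hχ n1.symm rθ
  have z4 := hz hθ hη n3 rθ
  have z5 := hz hη hχ n2.symm rη
  have z6 := hz hη hθ n3.symm rη
  simp only [Finset.sum_add_distrib] at z1 z2 z3 z4 z5 z6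
  have : (Fintype.card G : ℂ) * ((1 + 2 * m : ℕ) : ℂ) = 0 := by
    push_cast
    linear_combination (1 / 6 : ℂ) * (hsum - d1 - d2 - d3 - 6 * hm' + z1 + z2 + z3 + z4 + z5 + z6)
  rcases mul_eq_zero.1 this with e | e
  · exact hN e
  · rw [Nat.cast_eq_zero] at e; omega

theorem weight_re_nonneg (hx : x ≠ 1) (h : Hyp x 4) {χ : G → ℂ} (hχ : Cfsg.IsIrrCharacter G χ)
    (hne : χ ≠ fun _ => 1) (h3 : ¬ IsThree x χ) : 0 ≤ (χ 1 * conj (χ x)).re := by
  rcases value_cases hx h hχ hne with e | e | ⟨n, h5, e1, e⟩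
  · exact absurd e h3
  · simp [e]
  · rw [e1, e, ← Nat.cast_ofNat (R := ℂ) (n := 4), ← Nat.cast_sub (show 4 ≤ n by omega), Complex.conj_natCast,
      ← Nat.cast_mul, Complex.natCast_re]
    positivity

open scoped Classical in
/-- The irreducible characters of degree three with value minus one. -/
noncomputable def threes (x : G) : Finset (G → ℂ) :=
  ((irrFinset G).erase fun _ => 1).filter (IsThree x)

theorem mem_threes {χ : G → ℂ} : χ ∈ threes x ↔ IsThree x χ := by
  classical
  simp only [threes, Finset.mem_filter, Finset.mem_erase, mem_irrFinset]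
  exact ⟨fun h => h.2, fun h => ⟨⟨h.ne_one, h.1⟩, h⟩⟩

open scoped Classical in
theorem threes_sum_eq (hx : x ≠ 1) :
    -3 * ((threes x).card : ℝ) + ∑ χ ∈ ((irrFinset G).erase fun _ => 1) \ threes x, (χ 1 * conj (χ x)).re
      = -1 := by
  have h := congrArg Complex.re (CfsgLib.ConstantDrop.col_sum (G := G) hx)
  rw [Complex.re_sum, Complex.neg_re, Complex.one_re,
    ← Finset.sum_sdiff (s₁ := threes x) (by unfold threes; exact Finset.filter_subset _ _)] at h
  rw [← h, add_comm]
  congr 1
  rw [Finset.sum_congr rfl fun χ hχ => show (χ 1 * conj (χ x)).re = (-3 : ℝ) by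
      simp [(mem_threes.1 hχ).2.1, (mem_threes.1 hχ).2.2],
    Finset.sum_const, nsmul_eq_mul]
  ring

theorem threes_real (hx : x ≠ 1) (h : Hyp x 4) {θ : G → ℂ} (hθ : IsThree x θ) : IsReal θ := by
  classical
  haveI := Fintype.ofFinite G
  by_contra hr
  have hall : ∀ χ ∈ threes x, IsThree x χ ∧ ¬ IsReal χ := fun χ hχ =>
    ⟨mem_threes.1 hχ, fun hχr => hr (real_of_real hx h (mem_threes.1 hχ) hθ hχr)⟩
  have hfib : (threes x).card ≤ 2 * ((threes x).image sq).card := by
    refine Finset.card_le_mul_card_image _ 2 fun ψ _ => ?_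
    by_contra hlt
    obtain ⟨a, ha, b, hb, c, hc, hab, hac, hbc⟩ := Finset.two_lt_card.1 (not_le.1 hlt)
    rw [Finset.mem_filter] at ha hb hc
    exact sq_triple hx h (hall a ha.1).1 (hall b hb.1).1 (hall c hc.1).1 (hall a ha.1).2 (hall b hb.1).2
      (hall c hc.1).2 hab hac hbc (ha.2.trans hb.2.symm) (ha.2.trans hc.2.symm)
  have himg : (12 : ℝ) * ((threes x).image sq).card
      ≤ ∑ χ ∈ ((irrFinset G).erase fun _ => 1) \ threes x, (χ 1 * conj (χ x)).re := by
    calc (12 : ℝ) * ((threes x).image sq).card = ∑ ψ ∈ (threes x).image sq, (ψ 1 * conj (ψ x)).re := by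
          rw [Finset.sum_congr rfl fun ψ hψ => show (ψ 1 * conj (ψ x)).re = (12 : ℝ) by
              obtain ⟨χ, hχ, rfl⟩ := Finset.mem_image.1 hψ
              obtain ⟨-, h1, hv⟩ := (hall χ hχ).1.sq_irr hx h (hall χ hχ).2
              simp [h1, hv, map_ofNat]; norm_num,
            Finset.sum_const, nsmul_eq_mul, mul_comm]
      _ ≤ _ := Finset.sum_le_sum_of_subset_of_nonneg (fun ψ hψ => by
          obtain ⟨χ, hχ, rfl⟩ := Finset.mem_image.1 hψ
          obtain ⟨hi, h1, -⟩ := (hall χ hχ).1.sq_irr hx h (hall χ hχ).2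
          refine Finset.mem_sdiff.2 ⟨Finset.mem_erase.2 ⟨fun e => ?_, mem_irrFinset.2 hi⟩, fun e => ?_⟩
          · rw [e] at h1; norm_num at h1
          · rw [(mem_threes.1 e).2.1] at h1; norm_num at h1) fun ψ hψ _ => by
            rw [Finset.mem_sdiff, Finset.mem_erase, mem_irrFinset, mem_threes] at hψ
            exact weight_re_nonneg hx h hψ.1.2 hψ.1.1 hψ.2
  have h1 : -3 * ((threes x).card : ℝ)
      + ∑ χ ∈ ((irrFinset G).erase fun _ => 1) \ threes x, (χ 1 * conj (χ x)).re = -1 := by
    convert threes_sum_eq (G := G) hx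
  have h2 : ((threes x).card : ℝ) ≤ 2 * ((threes x).image sq).card := by exact_mod_cast hfib
  have h0 : (1 : ℝ) ≤ (threes x).card := by
    exact_mod_cast Finset.card_pos.2 ⟨θ, mem_threes.2 hθ⟩
  linarith

end CfsgLib.Char.FourDrop
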