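import Cfsg.Agent.Char.FourDrop.Quotient
import Cfsg.Agent.S3378
import Cfsg.Agent.Classical.SmallPSL
import Cfsg.Agent.Unitary.ThreeTwo

/-!
# Characters dropping by four: the structure of the group
-/

set_option autoImplicit false
set_option linter.style.haveILetI false
set_option linter.unusedSectionVars false

namespace CfsgLib.Char.FourDrop

open CfsgLib.ConstantDrop (Hyp)

universe u

variable {G : Type u} [Group G] [Finite G]

/-- An element acting without fixed points, whose square centralises, inverts. -/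
theorem inverts {A : Subgroup G} {w : G} (hnorm : ∀ a ∈ A, w * a * w⁻¹ ∈ A)
    (hsq : ∀ a ∈ A, w * w * a = a * (w * w)) (hfix : ∀ a ∈ A, w * a = a * w → a = 1) :
    ∀ a ∈ A, w * a * w⁻¹ = a⁻¹ := by
  let f : A → A := fun a => ⟨(a : G)⁻¹ * (w * a * w⁻¹), mul_mem (inv_mem a.2) (hnorm a a.2)⟩
  have hinj : Function.Injective f := by
    intro a b hab
    have h1 : (a : G)⁻¹ * (w * a * w⁻¹) = (b : G)⁻¹ * (w * b * w⁻¹) := congrArg Subtype.val hab
    have h2 : w * ((b : G) * (a : G)⁻¹) = ((b : G) * (a : G)⁻¹) * w := by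
      calc w * ((b : G) * (a : G)⁻¹) = (b : G) * ((b : G)⁻¹ * (w * b * w⁻¹)) * (w * (a : G)⁻¹) := by group
        _ = (b : G) * ((a : G)⁻¹ * (w * a * w⁻¹)) * (w * (a : G)⁻¹) := by rw [h1]
        _ = ((b : G) * (a : G)⁻¹) * w := by group
    exact Subtype.ext (mul_inv_eq_one.1 (hfix _ (mul_mem b.2 (inv_mem a.2)) h2)).symm
  intro a ha
  obtain ⟨b, hb⟩ := (Finite.injective_iff_surjective.1 hinj) ⟨a, ha⟩
  have h1 : (b : G)⁻¹ * (w * b * w⁻¹) = a := congrArg Subtype.val hb
  rw [← h1]
  have h2 : w * (w * b * w⁻¹) * w⁻¹ = (b : G) := by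
    calc w * (w * b * w⁻¹) * w⁻¹ = w * w * b * (w * w)⁻¹ := by group
      _ = b := by rw [hsq b b.2, mul_inv_cancel_right]
  calc w * ((b : G)⁻¹ * (w * b * w⁻¹)) * w⁻¹ = (w * b * w⁻¹)⁻¹ * (w * (w * b * w⁻¹) * w⁻¹) := by group
    _ = ((b : G)⁻¹ * (w * b * w⁻¹))⁻¹ := by rw [h2]; group

theorem comm_of_inverted {A : Subgroup G} {w : G} (h : ∀ a ∈ A, w * a * w⁻¹ = a⁻¹) :
    IsMulCommutative A := by
  refine ⟨⟨fun a b => Subtype.ext ?_⟩⟩
  have h1 := h _ (mul_mem a.2 b.2)
  have h2 : w * ((a : G) * b) * w⁻¹ = (w * a * w⁻¹) * (w * b * w⁻¹) := by group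
  rw [h2, h a a.2, h b b.2, ← mul_inv_rev, inv_inj] at h1
  exact h1.symm

variable {K : Subgroup G} [K.Normal] {x : G}

/-- The odd core lies in a normal subgroup with quotient `A₅`. -/
theorem oddCore_le (e : G ⧸ K ≃* alternatingGroup (Fin 5)) : Cfsg.oddCore G ≤ K := by
  haveI : Fact (Nat.Prime 2) := ⟨Nat.prime_two⟩
  haveI hn : (Cfsg.oddCore G).Normal := inferInstanceAs (Cfsg.pPrimeCore 2 G).Normal
  haveI : IsSimpleGroup (G ⧸ K) :=
    e.isSimpleGroup_congr.2 (alternatingGroup.isSimpleGroup (by simp))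
  have h1 : ((Cfsg.oddCore G).map (QuotientGroup.mk' K)).Normal :=
    hn.map _ (QuotientGroup.mk'_surjective K)
  rcases h1.eq_bot_or_eq_top with h2 | h2
  · rwa [Subgroup.map_eq_bot_iff, QuotientGroup.ker_mk'] at h2
  · exfalso
    have hd := Subgroup.card_map_dvd (Cfsg.oddCore G) (QuotientGroup.mk' K)
    rw [h2, Subgroup.card_top, Nat.card_congr e.toEquiv, nat_card_alternatingGroup, Nat.card_fin,
      show Nat.factorial 5 / 2 = 60 from rfl] at hd
    exact (Nat.prime_two.coprime_iff_not_dvd).1 (CfsgLib.Solvable.coprime_card_pPrimeCore 2).symm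
      (dvd_trans (by norm_num) hd)

/-- The case of an involution. -/
theorem case_one (e : G ⧸ K ≃* alternatingGroup (Fin 5)) (hxK : (x : G ⧸ K) ≠ 1)
    (hxxK : (x : G ⧸ K) * (x : G ⧸ K) = 1)
    (hC : Nat.card (Subgroup.centralizer ({x} : Set G)) = 4)
    (hclass : ∀ y : G, (y : G ⧸ K) ≠ 1 → (y : G ⧸ K) * (y : G ⧸ K) = 1 → IsConj x y)
    (hxx : x * x = 1) : Cfsg.oddCore G = K ∧ IsMulCommutative K := by
  classical
  have hinv : ∀ y : G, (y : G ⧸ K) ≠ 1 → (y : G ⧸ K) * (y : G ⧸ K) = 1 → y * y = 1 := fun y h1 h2 => by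
    obtain ⟨a, rfl⟩ := isConj_iff.1 (hclass y h1 h2)
    rw [show a * x * a⁻¹ * (a * x * a⁻¹) = a * (x * x) * a⁻¹ by group, hxx, mul_one, mul_inv_cancel]
  have hxi : x⁻¹ = x := inv_eq_of_mul_eq_one_right hxx
  have hxk : ∀ k ∈ K, x * k * x⁻¹ = k⁻¹ := fun k hk => by
    have he : ((x * k : G) : G ⧸ K) = x := by
      rw [QuotientGroup.mk_mul, (QuotientGroup.eq_one_iff k).2 hk, mul_one]
    have := hinv (x * k) (he ▸ hxK) (by rw [he]; exact hxxK)
    rw [hxi]
    exact eq_inv_of_mul_eq_one_left (by simpa [mul_assoc] using this)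
  refine ⟨le_antisymm (oddCore_le e) (CfsgLib.Solvable.le_pPrimeCore 2 inferInstance ?_), comm_of_inverted hxk⟩
  refine ((Nat.prime_two.coprime_iff_not_dvd).2 fun h2 => ?_).symm
  haveI : Fact (Nat.Prime 2) := ⟨Nat.prime_two⟩
  obtain ⟨⟨t, ht⟩, ho⟩ := exists_prime_orderOf_dvd_card' 2 h2
  rw [Subgroup.orderOf_mk] at ho
  have htt : t⁻¹ = t := inv_eq_of_mul_eq_one_right (by rw [← pow_two, ← ho, pow_orderOf_eq_one])
  have hxt : t * x = x * t := by
    have := hxk t ht
    rw [htt, mul_inv_eq_iff_eq_mul] at this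
    exact this.symm
  have hcl : x ∈ Subgroup.centralizer ({x} : Set G) := Subgroup.mem_centralizer_singleton_iff.2 rfl
  -- a second involution of the quotient commuting with the first
  obtain ⟨c, hc, hc1, hcx⟩ : ∃ c, c ∈ Subgroup.centralizer ({(x : G ⧸ K)} : Set (G ⧸ K)) ∧ c ≠ 1 ∧ c ≠ (x : G ⧸ K) := by
    by_contra hno
    simp only [not_exists, not_and, not_not] at hno
    let r : alternatingGroup (Fin 5) := e x
    have hr : ∀ s : alternatingGroup (Fin 5), s ≠ 1 → s * s = 1 →
        ∃ c : alternatingGroup (Fin 5), c * s = s * c ∧ c ≠ 1 ∧ c ≠ s := by decide +kernel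
    obtain ⟨c, h1, h2, h3⟩ := hr r (fun h => hxK (e.injective (h.trans (map_one e).symm)))
      (by simp only [r, ← map_mul, hxxK, map_one])
    refine h3 ?_
    have := hno (e.symm c) (Subgroup.mem_centralizer_singleton_iff.2 (e.injective (by
      rw [map_mul, map_mul, MulEquiv.apply_symm_apply]; exact h1)))
      (fun h => h2 (by rw [← MulEquiv.apply_symm_apply e c, h, map_one]))
    rw [← MulEquiv.apply_symm_apply e c, this]
  have hc2 : c * c = 1 := e.injective (by
    have hr : ∀ s c : alternatingGroup (Fin 5), s ≠ 1 → s * s = 1 → c * s = s * c → c * c = 1 := by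
      decide +kernel
    rw [map_mul, map_one]
    refine hr (e x) (e c) (fun h => hxK (e.injective (h.trans (map_one e).symm))) (by simp only [← map_mul, hxxK, map_one]) ?_
    rw [← map_mul, ← map_mul, Subgroup.mem_centralizer_singleton_iff.1 hc])
  obtain ⟨y, rfl⟩ := QuotientGroup.mk_surjective c
  have hyy := hinv y hc1 hc2
  have hxy := hinv (x * y)
    (fun h => hcx (by rw [QuotientGroup.mk_mul, ← eq_inv_iff_mul_eq_one] at h; rw [← inv_inv (y : G ⧸ K), ← h,
      inv_eq_of_mul_eq_one_right hxxK]))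
    (by
      have h := Subgroup.mem_centralizer_singleton_iff.1 hc
      rw [QuotientGroup.mk_mul]
      calc (x : G ⧸ K) * y * (x * y) = x * ((y : G ⧸ K) * x) * y := by group
        _ = 1 := by rw [h, ← mul_assoc, hxxK, one_mul, hc2])
  have hcy : y * x = x * y := by
    calc y * x = y⁻¹ * x⁻¹ := by rw [hxi, inv_eq_of_mul_eq_one_right hyy]
      _ = (x * y)⁻¹ := (mul_inv_rev x y).symm
      _ = x * y := inv_eq_of_mul_eq_one_right hxy
  -- five elements of the centraliser
  have ht1 : t ≠ 1 := fun h => by rw [h, orderOf_one] at ho; exact absurd ho (by norm_num)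
  have htK : (t : G ⧸ K) = 1 := (QuotientGroup.eq_one_iff t).2 ht
  let F : Finset G := {1, x, t, x * t, y}
  have hF : F.card = 5 := by
    have n1 : (1 : G) ≠ x := fun h => hxK (by rw [← h]; rfl)
    have n2 : x ≠ t := fun h => hxK (by rw [h, htK])
    have n3 : (1 : G) ≠ x * t := fun h => hxK (by
      have := congrArg (fun g : G => (g : G ⧸ K)) h
      simpa [htK] using this.symm)
    have n4 : x ≠ x * t := fun h => ht1 (by simpa using h.symm)
    have n5 : t ≠ x * t := fun h => n1 (mul_right_cancel ((one_mul t).trans h))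
    have n6 : (1 : G) ≠ y := fun h => hc1 (by rw [← h]; rfl)
    have n7 : x ≠ y := fun h => hcx (by rw [h])
    have n8 : t ≠ y := fun h => hc1 (by rw [← h, htK])
    have n9 : x * t ≠ y := fun h => hcx (by rw [← h, QuotientGroup.mk_mul, htK, mul_one])
    simp only [F]
    rw [Finset.card_insert_of_notMem (by simp [n1, ht1.symm, n3, n6]),
      Finset.card_insert_of_notMem (by simp [n2, n4, n7]),
      Finset.card_insert_of_notMem (by simp [n5, n8]), Finset.card_pair n9]
  have hsub : (F : Set G) ⊆ (Subgroup.centralizer ({x} : Set G) : Set G) := by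
    intro g hg
    simp only [F, Finset.coe_insert, Finset.coe_singleton, Set.mem_insert_iff, Set.mem_singleton_iff] at hg
    rcases hg with rfl | rfl | rfl | rfl | rfl
    · exact one_mem _
    · exact hcl
    · exact Subgroup.mem_centralizer_singleton_iff.2 hxt
    · exact mul_mem hcl (Subgroup.mem_centralizer_singleton_iff.2 hxt)
    · exact Subgroup.mem_centralizer_singleton_iff.2 hcy
  have := Set.ncard_le_ncard hsub (Set.toFinite _)
  rw [Set.ncard_coe_finset, hF, ← Nat.card_coe_set_eq] at this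
  change 5 ≤ Nat.card (Subgroup.centralizer ({x} : Set G)) at this
  omega

/-- The case of an element of order four. -/
theorem case_two (e : G ⧸ K ≃* alternatingGroup (Fin 5)) (hperf : commutator G = ⊤)
    (hxK : (x : G ⧸ K) ≠ 1) (hxxK : (x : G ⧸ K) * (x : G ⧸ K) = 1)
    (hC : Nat.card (Subgroup.centralizer ({x} : Set G)) = 4)
    (hclass : ∀ y : G, (y : G ⧸ K) ≠ 1 → (y : G ⧸ K) * (y : G ⧸ K) = 1 → IsConj x y)
    (hxx : x * x ≠ 1) :
    orderOf x = 4 ∧ IsMulCommutative (Cfsg.oddCore G) ∧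
      Nonempty (G ⧸ Cfsg.oddCore G ≃* Matrix.SpecialLinearGroup (Fin 2) (ZMod 5)) := by
  classical
  haveI : Fact (Nat.Prime 2) := ⟨Nat.prime_two⟩
  -- every preimage of an involution generates its centraliser
  have hgood : ∀ y : G, (y : G ⧸ K) ≠ 1 → (y : G ⧸ K) * (y : G ⧸ K) = 1 →
      orderOf y = 4 ∧ Subgroup.centralizer ({y} : Set G) = Subgroup.zpowers y := by
    intro y h1 h2
    have hyx := hclass y h1 h2
    have hC' : Nat.card (Subgroup.centralizer ({y} : Set G)) = 4 := by
      have e1 := mem_conjClass_card x hC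
      have e2 := card_conj_class_mul_card_centralizer y
      rw [Nat.card_congr (Equiv.subtypeEquivRight fun z => ⟨fun h => hyx.trans h, fun h => hyx.symm.trans h⟩
        : {z : G // IsConj y z} ≃ {z : G // IsConj x z})] at e2
      have : 0 < Nat.card {z : G // IsConj x z} := by
        haveI : Nonempty {z : G // IsConj x z} := ⟨⟨x, IsConj.refl x⟩⟩
        exact Nat.card_pos
      exact Nat.eq_of_mul_eq_mul_left this (e2.trans e1.symm)
    have hyy : y * y ≠ 1 := fun h => hxx (by
      obtain ⟨a, rfl⟩ := isConj_iff.1 hyx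
      rw [show a * x * a⁻¹ * (a * x * a⁻¹) = a * (x * x) * a⁻¹ by group] at h
      rwa [conj_eq_one_iff] at h)
    have hle : Subgroup.zpowers y ≤ Subgroup.centralizer ({y} : Set G) :=
      Subgroup.zpowers_le.2 (Subgroup.mem_centralizer_singleton_iff.2 rfl)
    have h4 : y ^ (2 ^ (1 + 1)) = 1 := by
      have := Subgroup.orderOf_dvd_natCard _ (hle (Subgroup.mem_zpowers y))
      rw [hC'] at this
      exact orderOf_dvd_iff_pow_eq_one.1 (by simpa using this)
    have ho : orderOf y = 4 := orderOf_eq_prime_pow (n := 1) (by simpa [pow_two] using hyy) h4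
    exact ⟨ho, (Subgroup.eq_of_le_of_card_ge hle (by rw [hC', Nat.card_zpowers, ho])).symm⟩
  obtain ⟨hox, hCx⟩ := hgood x hxK hxxK
  have h60 : Nat.card (G ⧸ K) = 60 := by
    rw [Nat.card_congr e.toEquiv, nat_card_alternatingGroup, Nat.card_fin]; rfl
  have hA5 : ∀ q : G ⧸ K, q ^ 4 = 1 → q * q = 1 := fun q hq => e.injective (by
    rw [map_mul, map_one]
    exact alternating_five_facts.2 _ (by rw [← map_pow, hq, map_one]))
  -- a Sylow subgroup containing the element
  obtain ⟨S, hS⟩ : ∃ S : Sylow 2 G, x ∈ (S : Subgroup G) := by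
    obtain ⟨S, hS⟩ := (IsPGroup.of_card (n := 2) (by rw [Nat.card_zpowers, hox]; rfl) :
      IsPGroup 2 (Subgroup.zpowers x)).exists_le_sylow
    exact ⟨S, hS (Subgroup.mem_zpowers x)⟩
  set f := QuotientGroup.mk' K with hf
  have hV : Nat.card ((S : Subgroup G).map f) = 4 := by
    have h := (S.mapSurjective (f := f) (QuotientGroup.mk'_surjective K)).card_eq_multiplicity
    rw [h60, show (60 : ℕ) = 2 ^ 2 * 15 by norm_num,
      Nat.factorization_mul (by norm_num) (by norm_num), Finsupp.add_apply,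
      Nat.Prime.factorization_pow Nat.prime_two, Nat.factorization_eq_zero_of_not_dvd (by norm_num)] at h
    simpa using h
  have hinvol : ∀ g ∈ (S : Subgroup G), (g : G ⧸ K) * (g : G ⧸ K) = 1 := fun g hg => by
    refine hA5 _ (orderOf_dvd_iff_pow_eq_one.1 ?_)
    rw [← hV]
    exact Subgroup.orderOf_dvd_natCard _ ⟨g, hg, rfl⟩
  -- a second one
  obtain ⟨y, hy, hy1, hyx⟩ : ∃ y ∈ (S : Subgroup G), (y : G ⧸ K) ≠ 1 ∧ (y : G ⧸ K) ≠ (x : G ⧸ K) := by
    by_contra hno
    push Not at hno
    have : ((S : Subgroup G).map f : Set (G ⧸ K)) ⊆ {1, (x : G ⧸ K)} := by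
      rintro q ⟨g, hg, rfl⟩
      by_cases h : (g : G ⧸ K) = 1
      · exact Or.inl h
      · exact Or.inr (hno g hg h)
    have h := (Set.ncard_le_ncard this (Set.toFinite _)).trans (Set.ncard_insert_le _ _)
    rw [Set.ncard_singleton, ← Nat.card_coe_set_eq] at h
    change Nat.card ((S : Subgroup G).map f) ≤ 2 at h
    omega
  obtain ⟨hoy, hCy⟩ := hgood y hy1 (hinvol y hy)
  -- the common square is central in the Sylow subgroup
  have hcyc : ∀ g : G, orderOf g = 4 → (g : G ⧸ K) * (g : G ⧸ K) = 1 → ∀ c ∈ Subgroup.zpowers g,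
      ((c : G ⧸ K) = 1 ∧ (c = 1 ∨ c = g * g)) ∨ (c : G ⧸ K) = (g : G ⧸ K) ∨ (g : G ⧸ K) = 1 := by
    intro g ho hgg c hc
    obtain ⟨i, hi, rfl⟩ := Finset.mem_image.1 (mem_zpowers_iff_mem_range_orderOf.1 hc)
    rw [Finset.mem_range, ho] at hi
    interval_cases i
    · exact Or.inl ⟨by simp, Or.inl (pow_zero g)⟩
    · exact Or.inr (Or.inl (by rw [pow_one]))
    · exact Or.inl ⟨by rw [pow_two, QuotientGroup.mk_mul, hgg], Or.inr (pow_two g)⟩
    · exact Or.inr (Or.inl (by rw [pow_succ, pow_two, QuotientGroup.mk_mul, QuotientGroup.mk_mul, hgg, one_mul]))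
  obtain ⟨c, hcS, hcc, hc1⟩ : ∃ c ∈ (S : Subgroup G), (∀ g ∈ (S : Subgroup G), c * g = g * c) ∧ c ≠ 1 := by
    haveI : Nontrivial (S : Subgroup G) :=
      ⟨⟨x, hS⟩, 1, fun h => hxK (by rw [show x = 1 from congrArg Subtype.val h]; rfl)⟩
    haveI := S.isPGroup'.center_nontrivial
    obtain ⟨⟨⟨c, hc⟩, hcent⟩, hne⟩ := exists_ne (1 : Subgroup.center (S : Subgroup G))
    exact ⟨c, hc, fun g hg => (congrArg Subtype.val (Subgroup.mem_center_iff.1 hcent ⟨g, hg⟩)).symm,
      fun h => hne (Subtype.ext (Subtype.ext h))⟩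
  have hsq : ∀ g ∈ (S : Subgroup G), (g : G ⧸ K) ≠ 1 → g * g = c := by
    intro g hg h1
    obtain ⟨hog, hCg⟩ := hgood g h1 (hinvol g hg)
    obtain ⟨g', hg', h1', hne⟩ : ∃ g' ∈ (S : Subgroup G), (g' : G ⧸ K) ≠ 1 ∧ (g' : G ⧸ K) ≠ (g : G ⧸ K) := by
      by_cases h : (g : G ⧸ K) = (x : G ⧸ K)
      · exact ⟨y, hy, hy1, h ▸ hyx⟩
      · exact ⟨x, hS, hxK, Ne.symm h⟩
    obtain ⟨hog', hCg'⟩ := hgood g' h1' (hinvol g' hg')
    have m1 : c ∈ Subgroup.zpowers g := hCg ▸ Subgroup.mem_centralizer_singleton_iff.2 (hcc g hg)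
    have m2 : c ∈ Subgroup.zpowers g' := hCg' ▸ Subgroup.mem_centralizer_singleton_iff.2 (hcc g' hg')
    rcases hcyc g hog (hinvol g hg) c m1 with ⟨-, h | h⟩ | h | h
    · exact absurd h hc1
    · exact h.symm
    · rcases hcyc g' hog' (hinvol g' hg') c m2 with ⟨h', -⟩ | h' | h'
      · exact absurd (h.symm.trans h') h1
      · exact absurd (h'.symm.trans h) hne
      · exact absurd h' h1'
    · exact absurd h h1
  have hcK : (c : G ⧸ K) = 1 := by
    rw [← hsq x hS hxK, QuotientGroup.mk_mul, hxxK]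
  have hc2 : c * c = 1 := by
    rw [← hsq x hS hxK, ← pow_two, ← pow_two, ← pow_mul]
    exact orderOf_dvd_iff_pow_eq_one.1 (by rw [hox])
  -- the Sylow subgroup meets the kernel in two elements
  have hT : ∀ t ∈ (S : Subgroup G), (t : G ⧸ K) = 1 → t = 1 ∨ t = c := by
    intro t ht htK
    have hflip : ∀ g ∈ (S : Subgroup G), (g : G ⧸ K) ≠ 1 → t * g * t = g := by
      intro g hg h1
      have h := hsq (g * t) (mul_mem hg ht) (by rwa [QuotientGroup.mk_mul, htK, mul_one])
      rw [← hsq g hg h1, mul_assoc, mul_right_inj, ← mul_assoc] at h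
      exact h
    have h1 := hflip x hS hxK
    have h2 := hflip y hy hy1
    have h3 := hflip (x * y) (mul_mem hS hy) (fun h => hyx (by
      rw [QuotientGroup.mk_mul, ← eq_inv_iff_mul_eq_one] at h
      rw [← inv_inv (y : G ⧸ K), ← h, inv_eq_of_mul_eq_one_right hxxK]))
    have h4 : t * x = x * t := by
      have e1 : y * t = t⁻¹ * y := eq_inv_mul_of_mul_eq (by rw [← mul_assoc]; exact h2)
      have e2 : t * x * t⁻¹ * y = x * y := by
        calc t * x * t⁻¹ * y = t * x * (t⁻¹ * y) := mul_assoc _ _ _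
          _ = t * (x * y) * t := by rw [← e1]; group
          _ = x * y := h3
      exact mul_inv_eq_iff_eq_mul.1 (mul_right_cancel e2)
    rcases hcyc x hox hxxK t (hCx ▸ Subgroup.mem_centralizer_singleton_iff.2 h4) with ⟨-, h | h⟩ | h | h
    · exact Or.inl h
    · exact Or.inr (h.trans (hsq x hS hxK))
    · exact absurd (h.symm.trans htK) hxK
    · exact absurd h hxK
  -- the Sylow subgroup is quaternion of order eight
  have hc : c ≠ 1 := hc1
  have hker : Nat.card ((f.comp (S : Subgroup G).subtype).ker) = 2 := by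
    have : Set.ncard ({1, c} : Set G) = 2 := Set.ncard_pair hc1.symm
    refine Eq.trans ?_ ((Nat.card_coe_set_eq _).trans this)
    refine Nat.card_congr
      { toFun := fun t => ⟨t.1.1, hT t.1.1 t.1.2 (MonoidHom.mem_ker.1 t.2)⟩
        invFun := fun t => ⟨⟨t.1, by rcases t.2 with h | h <;> rw [h]; exacts [one_mem _, hcS]⟩,
          MonoidHom.mem_ker.2 (by
            change ((t.1 : G) : G ⧸ K) = 1
            rcases t.2 with h | h <;> rw [h]; exacts [rfl, hcK])⟩
        left_inv := fun t => rfl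
        right_inv := fun t => rfl }
  have hS8 : Nat.card (S : Subgroup G) = 8 := by
    rw [Subgroup.card_eq_card_quotient_mul_card_subgroup (f.comp (S : Subgroup G).subtype).ker, hker,
      Nat.card_congr (QuotientGroup.quotientKerEquivRange _).toEquiv, MonoidHom.range_comp,
      Subgroup.range_subtype, hV]
  have hQ8 : Nonempty ((S : Subgroup G) ≃* QuaternionGroup 2) := by
    refine CfsgLib.Unitary.nonempty_mulEquiv_quaternion hS8 (fun g => Subtype.ext ?_) fun a b ha hb hna hnb => ?_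
    · change (g : G) ^ 4 = 1
      by_cases h : ((g : G) : G ⧸ K) = 1
      · rcases hT g g.2 h with h' | h' <;> rw [h']
        · exact one_pow 4
        · rw [show c ^ 4 = (c * c) * (c * c) by simp only [pow_succ, pow_zero, one_mul, mul_assoc], hc2, one_mul]
      · rw [show (g : G) ^ 4 = ((g : G) * g) * (g * g) by simp only [pow_succ, pow_zero, one_mul, mul_assoc], hsq g g.2 h, hc2]
    · have key : ∀ g : (S : Subgroup G), g ^ 2 = 1 → g ≠ 1 → (g : G) = c := fun g hg hg1 => by
        have h2 : (g : G) * g = 1 := by rw [← pow_two]; exact congrArg Subtype.val hg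
        by_cases h : ((g : G) : G ⧸ K) = 1
        · exact (hT g g.2 h).resolve_left fun h' => hg1 (Subtype.ext h')
        · exact absurd ((hsq g g.2 h).symm.trans h2) hc1
      exact Subtype.ext ((key a ha hna).trans (key b hb hnb).symm)
  -- the kernel has a normal complement to its subgroup of order two
  haveI := Fintype.ofFinite G
  set O := Cfsg.oddCore G with hO
  haveI hOn : O.Normal := inferInstanceAs (Cfsg.pPrimeCore 2 G).Normal
  have hOK : O ≤ K := oddCore_le e
  have hOodd : ¬ 2 ∣ Nat.card O :=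
    Nat.prime_two.coprime_iff_not_dvd.1 (CfsgLib.Solvable.coprime_card_pPrimeCore 2).symm
  have hindex : (S : Subgroup G).index * 8 = 60 * Nat.card K := by
    have := (S : Subgroup G).index_mul_card
    rw [hS8, K.card_eq_card_quotient_mul_card_subgroup, h60] at this
    exact this
  have hK2 : ∃ r, Nat.card K = 2 * r ∧ ¬ 2 ∣ r := by
    have hodd : ¬ 2 ∣ (S : Subgroup G).index := S.not_dvd_index
    refine ⟨Nat.card K / 2, ?_, ?_⟩ <;> omega
  obtain ⟨r, hKr, hr⟩ := hK2
  have hKO : 2 * Nat.card O = Nat.card K := by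
    obtain ⟨P⟩ : Nonempty (Sylow 2 K) := inferInstance
    have hP : Nat.card (P : Subgroup K) = 2 := by
      rw [P.card_eq_multiplicity, hKr, Nat.factorization_mul (by norm_num) (by omega), Finsupp.add_apply,
        Nat.Prime.factorization_self Nat.prime_two, Nat.factorization_eq_zero_of_not_dvd hr]
      rfl
    haveI hcycP : IsCyclic (P : Subgroup K) := isCyclic_of_prime_card hP
    have hmin : (Nat.card K).minFac = 2 := (Nat.minFac_eq_two_iff _).2 ⟨r, hKr⟩
    have hcpl := IsCyclic.isComplement' hmin hcycP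
    set N := (MonoidHom.transferSylow P (hcycP.normalizer_le_centralizer hmin)).ker
    have hNcard : Nat.card N * 2 = Nat.card K := by rw [← hP]; exact hcpl.card_mul_card
    have hNle : N ≤ Cfsg.pPrimeCore 2 K := CfsgLib.Solvable.le_pPrimeCore 2 inferInstance
      ((Nat.prime_two.coprime_iff_not_dvd.2 (by omega)).symm)
    haveI : (Cfsg.pPrimeCore 2 K).Characteristic := Subgroup.characteristic_iff_map_le.2 fun φ =>
      CfsgLib.Solvable.le_pPrimeCore 2
        ((inferInstance : (Cfsg.pPrimeCore 2 K).Normal).map φ.toMonoidHom φ.surjective)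
        (by rw [Subgroup.card_map_of_injective φ.injective]; exact CfsgLib.Solvable.coprime_card_pPrimeCore 2)
    have hmap : (Cfsg.pPrimeCore 2 K).map K.subtype ≤ O := CfsgLib.Solvable.le_pPrimeCore 2 inferInstance
      (by rw [Subgroup.card_map_of_injective K.subtype_injective]; exact CfsgLib.Solvable.coprime_card_pPrimeCore 2)
    have hge : Nat.card N ≤ Nat.card O := by
      refine le_trans ?_ (Subgroup.card_le_of_le hmap)
      rw [Subgroup.card_map_of_injective K.subtype_injective]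
      exact Subgroup.card_le_of_le hNle
    obtain ⟨q, hq⟩ := Subgroup.card_dvd_of_le hOK
    have hq2 : q ≤ 2 := by
      by_contra hlt
      have : Nat.card O * 3 ≤ Nat.card O * q := Nat.mul_le_mul_left _ (by omega)
      have : 0 < Nat.card O := Nat.card_pos
      omega
    have : 2 ∣ Nat.card O * q := hq ▸ ⟨r, hKr⟩
    rcases (Nat.prime_two.dvd_mul.1 this) with h | h
    · exact absurd h hOodd
    · obtain ⟨q', rfl⟩ := h
      rcases (by omega : q' = 0 ∨ q' = 1) with rfl | rfl <;> omega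
  -- the quotient
  have h120 : Nat.card (G ⧸ O) = 120 := by
    have := O.card_eq_card_quotient_mul_card_subgroup
    rw [K.card_eq_card_quotient_mul_card_subgroup, h60, ← hKO, ← mul_assoc] at this
    exact Nat.eq_of_mul_eq_mul_right Nat.card_pos this.symm
  have hns : ¬ Group.IsSolvable (G ⧸ O) := fun hs => by
    haveI : Nontrivial (G ⧸ O) := Finite.one_lt_card_iff_nontrivial.1 (by omega)
    refine (Group.IsSolvable.commutator_lt_top_of_nontrivial (G ⧸ O)).ne ?_
    rw [commutator_def, ← Subgroup.map_top_of_surjective _ (QuotientGroup.mk'_surjective O),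
      ← Subgroup.map_commutator, ← commutator_def, hperf]
  have hsyl : ∀ P : Sylow 2 (G ⧸ O), Nonempty ((P : Subgroup (G ⧸ O)) ≃* QuaternionGroup 2) := by
    intro P
    obtain ⟨T, rfl⟩ := Sylow.mapSurjective_surjective (QuotientGroup.mk'_surjective O) 2 P
    obtain ⟨e2⟩ := hQ8
    have hinj : Function.Injective ((QuotientGroup.mk' O).comp (T : Subgroup G).subtype) := by
      rw [← MonoidHom.ker_eq_bot_iff, Subgroup.eq_bot_iff_forall]
      intro t ht
      have htO : (t : G) ∈ O := (QuotientGroup.eq_one_iff _).1 (MonoidHom.mem_ker.1 ht)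
      obtain ⟨k, hk⟩ := T.isPGroup' t
      refine orderOf_eq_one_iff.1 ?_
      obtain ⟨j, -, hj⟩ := (Nat.dvd_prime_pow Nat.prime_two).1 (orderOf_dvd_of_pow_eq_one hk)
      rcases Nat.eq_zero_or_pos j with rfl | hj0
      · simpa using hj
      · refine absurd ((dvd_pow_self 2 hj0.ne').trans ?_) hOodd
        rw [← hj, ← Subgroup.orderOf_coe]
        exact Subgroup.orderOf_dvd_natCard _ htO
    refine ⟨(MulEquiv.subgroupCongr ?_).trans ((MonoidHom.ofInjective hinj).symm.trans ((Sylow.equiv T S).trans e2))⟩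
    rw [Sylow.coe_mapSurjective, MonoidHom.range_comp, Subgroup.range_subtype]
  refine ⟨hox, ?_, Cfsg.Agent.S3378.result.1 (G ⧸ O) h120 hns hsyl⟩
  -- the odd core is inverted by the central involution
  have hfix : ∀ w : G, orderOf w = 4 → Subgroup.centralizer ({w} : Set G) = Subgroup.zpowers w →
      ∀ a ∈ O, w * a = a * w → a = 1 := by
    intro w ho hw a ha h
    have hd : orderOf a ∣ 4 := ho ▸ Nat.card_zpowers w ▸ Subgroup.orderOf_dvd_natCard _
      (hw ▸ Subgroup.mem_centralizer_singleton_iff.2 h.symm)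
    have hd' : orderOf a ∣ Nat.card O := Subgroup.orderOf_dvd_natCard _ ha
    have hcop : (4 : ℕ).Coprime (Nat.card O) :=
      Nat.Coprime.pow_left 2 (Nat.prime_two.coprime_iff_not_dvd.2 hOodd)
    exact orderOf_eq_one_iff.1 (Nat.dvd_one.1 (hcop ▸ Nat.dvd_gcd hd hd'))
  let A := O ⊓ Subgroup.centralizer ({c} : Set G)
  have hA : ∀ g ∈ (S : Subgroup G), (g : G ⧸ K) ≠ 1 → ∀ a ∈ A, g * a * g⁻¹ = a⁻¹ := by
    intro g hg h1
    obtain ⟨hog, hCg⟩ := hgood g h1 (hinvol g hg)
    refine inverts (fun a ha => ⟨hOn.conj_mem a ha.1 g, ?_⟩) (fun a ha => ?_) fun a ha => hfix g hog hCg a ha.1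
    · refine (Subgroup.centralizer ({c} : Set G)).mul_mem ((Subgroup.centralizer ({c} : Set G)).mul_mem ?_ ha.2)
        ((Subgroup.centralizer ({c} : Set G)).inv_mem ?_) <;>
        exact Subgroup.mem_centralizer_singleton_iff.2 (hcc g hg).symm
    · rw [hsq g hg h1]; exact (Subgroup.mem_centralizer_singleton_iff.1 ha.2).symm
  have hA1 : ∀ a ∈ A, a = 1 := by
    intro a ha
    have i1 := hA x hS hxK a ha
    have i2 := hA y hy hy1 a ha
    have i3 := hA (x * y) (mul_mem hS hy) (fun h => hyx (by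
      rw [QuotientGroup.mk_mul, ← eq_inv_iff_mul_eq_one] at h
      rw [← inv_inv (y : G ⧸ K), ← h, inv_eq_of_mul_eq_one_right hxxK])) a ha
    have : x * y * a * (x * y)⁻¹ = a := by
      calc x * y * a * (x * y)⁻¹ = x * (y * a * y⁻¹) * x⁻¹ := by group
        _ = (x * a * x⁻¹)⁻¹ := by rw [i2]; group
        _ = a := by rw [i1, inv_inv]
    rw [this] at i3
    have h2 : a * a = 1 := by
      calc a * a = a * a⁻¹ := by rw [← i3]
        _ = 1 := mul_inv_cancel a
    by_contra hne
    refine hOodd ?_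
    rw [← orderOf_eq_prime (p := 2) (by rw [pow_two]; exact h2) hne]
    exact Subgroup.orderOf_dvd_natCard _ ha.1
  exact comm_of_inverted (inverts (w := c) (fun a ha => hOn.conj_mem a ha c) (fun a _ => by rw [hc2, one_mul, mul_one])
    fun a ha h => hA1 a ⟨ha, Subgroup.mem_centralizer_singleton_iff.2 h.symm⟩)

theorem structure_four {x : G} (hx : x ≠ 1) (h : Hyp x 4) :
    IsMulCommutative (Cfsg.oddCore G) ∧
      ((Nonempty (G ⧸ Cfsg.oddCore G ≃* Matrix.ProjectiveSpecialLinearGroup (Fin 2) (ZMod 5)) ∧ orderOf x = 2) ∨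
        (Nonempty (G ⧸ Cfsg.oddCore G ≃* Matrix.SpecialLinearGroup (Fin 2) (ZMod 5)) ∧ orderOf x = 4)) := by
  haveI : Fact (Nat.Prime 5) := ⟨by norm_num⟩
  haveI : (Cfsg.oddCore G).Normal := inferInstanceAs (Cfsg.pPrimeCore 2 G).Normal
  obtain ⟨K, hK, ⟨e⟩, hxK, hxxK, hC, hclass⟩ := quotient_spec hx h
  by_cases hxx : x * x = 1
  · obtain ⟨hO, hcomm⟩ := case_one e hxK hxxK hC hclass hxx
    obtain ⟨p⟩ := CfsgLib.Linear.Small.nonempty_psl_two_five (F := ZMod 5) (ZMod.card 5)
    exact ⟨hO ▸ hcomm, Or.inl ⟨⟨(QuotientGroup.quotientMulEquivOfEq hO).trans (e.trans p.symm)⟩,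
      orderOf_eq_prime (by rw [pow_two]; exact hxx) hx⟩⟩
  · obtain ⟨ho, hcomm, hiso⟩ := case_two e (perfect hx h) hxK hxxK hC hclass hxx
    exact ⟨hcomm, Or.inr ⟨hiso, ho⟩⟩

end CfsgLib.Char.FourDrop
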