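import Cfsg.Agent.Char.ConstantDrop
import Cfsg.Agent.Char.FourDrop.Cubic

/-!
# Characters dropping by four at an element: three-dimensional characters and their squares
-/

set_option autoImplicit false
set_option linter.style.haveILetI false
set_option linter.unusedSectionVars false

namespace CfsgLib.Char.FourDrop

open scoped ComplexConjugate
open CfsgLib.ConstantDrop (Hyp)

universe u

variable {G : Type u} [Group G]

/-- A three-dimensional irreducible character with value `-1` at `x`. -/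
def IsThree (x : G) (χ : G → ℂ) : Prop :=
  Cfsg.IsIrrCharacter G χ ∧ χ 1 = 3 ∧ χ x = -1

/-- The symmetric square, as the square minus the conjugate. -/
noncomputable def sq (χ : G → ℂ) : G → ℂ :=
  χ * χ - fun g => conj (χ g)

/-- A real valued class function. -/
def IsReal (χ : G → ℂ) : Prop :=
  (fun g => conj (χ g)) = χ

theorem classInner_sub_one [Fintype G] {φ : G → ℂ} {m : ℂ}
    (h : Cfsg.classInner φ (fun _ => (1 : ℂ)) = m) :
    Cfsg.classInner (φ - fun _ => (1 : ℂ)) (fun _ => (1 : ℂ)) = m - 1 := by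
  rw [classInner_sub_left, h, classInner_one_one]

variable [Finite G] {x : G}

theorem perfect (hx : x ≠ 1) (h : Hyp x 4) : commutator G = ⊤ :=
  by_contra fun hne => by
    have := CfsgLib.ConstantDrop.eq_two hx h hne
    norm_num at this

theorem exists_degree_two_le (hx : x ≠ 1) (h : Hyp x 4) {χ : G → ℂ} (hχ : Cfsg.IsIrrCharacter G χ)
    (hne : χ ≠ fun _ => 1) :
    ∃ n : ℕ, χ 1 = n ∧ 2 ≤ n ∧ (χ x = (n : ℂ) - 4 ∨ χ x = 0) := by
  obtain ⟨n, hn, h1⟩ := IsIrrCharacter.exists_degree hχ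
  refine ⟨n, h1, ?_, ?_⟩
  · by_contra hlt
    have hn1 : n = 1 := by omega
    obtain ⟨lam, rfl⟩ := IsCharacter.exists_hom (IsIrrCharacter.isCharacter hχ)
      (by rw [h1, hn1, Nat.cast_one])
    refine hne (funext fun g => ?_)
    have hg : lam g = 1 := MonoidHom.mem_ker.1 ((Abelianization.commutator_subset_ker lam)
      (by rw [perfect hx h]; trivial))
    rw [hg, Units.val_one]
  · rcases h ⟨χ, hχ⟩ hne with e | e
    · left
      simp only [h1] at e
      linear_combination -e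
    · exact Or.inr e

theorem re_le_zero [Fintype G] (hx : x ≠ 1) (h : Hyp x 4) :
    ∀ (N : ℕ) {φ : G → ℂ}, Cfsg.IsCharacter G φ → Cfsg.classInner φ (fun _ => (1 : ℂ)) = 0 →
      φ 1 = N → N ≤ 4 → (φ x).re ≤ 0 := by
  intro N
  induction N using Nat.strong_induction_on with
  | _ N ih =>
  intro φ hφ h0 h1 hN
  by_cases hz : φ = 0
  · simp [hz]
  obtain ⟨ψ, hψ, hin⟩ := IsCharacter.exists_constituent hφ hz
  have hψ1 : ψ ≠ fun _ => 1 := fun e => hin (e ▸ h0)
  obtain ⟨n, hn, hn2, hv⟩ := exists_degree_two_le hx h hψ hψ1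
  have hle := IsCharacter.re_constituent_le hφ hψ hin
  rw [hn, h1, Complex.natCast_re, Complex.natCast_re, Nat.cast_le] at hle
  have hrec := ih (N - n) (by omega) (IsCharacter.sub_irr hφ hψ hin)
    (by rw [classInner_sub_left, h0, IsIrrCharacter.classInner_of_ne hψ isIrrCharacter_one hψ1, sub_zero])
    (by rw [Pi.sub_apply, h1, hn, Nat.cast_sub hle]) (by omega)
  rw [Pi.sub_apply, Complex.sub_re] at hrec
  have hψre : (ψ x).re ≤ 0 := by
    have h4 : (n : ℝ) ≤ 4 := by exact_mod_cast (show n ≤ 4 by omega)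
    rcases hv with e | e <;> simp [e, h4]
  linarith

/-- A character of degree at most six without trivial constituent and with positive value is
irreducible. -/
theorem single [Fintype G] (hx : x ≠ 1) (h : Hyp x 4) {φ : G → ℂ} (hφ : Cfsg.IsCharacter G φ)
    (h0 : Cfsg.classInner φ (fun _ => (1 : ℂ)) = 0) {N : ℕ} (h1 : φ 1 = N) (hN : N ≤ 6)
    (hpos : 0 < (φ x).re) : Cfsg.IsIrrCharacter G φ ∧ 5 ≤ N ∧ φ x = (N : ℂ) - 4 := by
  obtain ⟨ψ, hψ, hin⟩ := IsCharacter.exists_constituent hφ fun e => by simp [e] at hpos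
  have hψ1 : ψ ≠ fun _ => 1 := fun e => hin (e ▸ h0)
  obtain ⟨n, hn, hn2, hv⟩ := exists_degree_two_le hx h hψ hψ1
  have hle := IsCharacter.re_constituent_le hφ hψ hin
  rw [hn, h1, Complex.natCast_re, Complex.natCast_re, Nat.cast_le] at hle
  have hrest := IsCharacter.sub_irr hφ hψ hin
  have hrest0 : Cfsg.classInner (φ - ψ) (fun _ => (1 : ℂ)) = 0 := by
    rw [classInner_sub_left, h0, IsIrrCharacter.classInner_of_ne hψ isIrrCharacter_one hψ1, sub_zero]
  have hrest1 : (φ - ψ) 1 = ((N - n : ℕ) : ℂ) := by rw [Pi.sub_apply, h1, hn, Nat.cast_sub hle]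
  by_cases hnN : n = N
  · subst hnN
    obtain rfl : φ = ψ := IsCharacter.eq_of_constituent hφ hψ hin (h1.trans hn.symm)
    have hv' : φ x = (n : ℂ) - 4 := hv.resolve_right fun e => by simp [e] at hpos
    refine ⟨hψ, ?_, hv'⟩
    rw [hv'] at hpos
    simp only [Complex.sub_re, Complex.natCast_re, Complex.re_ofNat, sub_pos] at hpos
    exact_mod_cast hpos
  · exfalso
    obtain ⟨ψ', hψ', hin'⟩ := IsCharacter.exists_constituent hrest fun e => by
      have h2 := congrFun e 1
      rw [hrest1, Pi.zero_apply, Nat.cast_eq_zero] at h2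
      omega
    obtain ⟨n', hn', hn2', -⟩ := exists_degree_two_le hx h hψ' fun e => hin' (e ▸ hrest0)
    have hle' := IsCharacter.re_constituent_le hrest hψ' hin'
    rw [hn', hrest1, Complex.natCast_re, Complex.natCast_re, Nat.cast_le] at hle'
    have hr := re_le_zero hx h (N - n) hrest hrest0 hrest1 (by omega)
    rw [Pi.sub_apply, Complex.sub_re] at hr
    have hψre : (ψ x).re ≤ 0 := by
      have h4 : (n : ℝ) ≤ 4 := by exact_mod_cast (show n ≤ 4 by omega)
      rcases hv with e | e <;> simp [e, h4]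
    linarith

theorem two_apply_eq_zero [Fintype G] (hx : x ≠ 1) (h : Hyp x 4) {χ : G → ℂ} (hχ : Cfsg.IsIrrCharacter G χ)
    (h2 : χ 1 = 2) : χ x = 0 := by
  have hne : χ ≠ fun _ => 1 := fun e => by simp [e] at h2
  obtain ⟨n, hn, -, hv⟩ := exists_degree_two_le hx h hχ hne
  obtain rfl : n = 2 := by
    rw [h2] at hn
    exact_mod_cast hn.symm
  refine hv.resolve_left fun e => ?_
  have hm : Cfsg.classInner (χ * fun g => conj (χ g)) (fun _ => (1 : ℂ)) = 1 := by
    refine Eq.trans ?_ (IsIrrCharacter.classInner_self hχ)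
    simp [Cfsg.classInner]
  have hc := IsCharacter.sub_irr (IsCharacter.mul (IsIrrCharacter.isCharacter hχ)
    (IsCharacter.conj (IsIrrCharacter.isCharacter hχ))) isIrrCharacter_one (by rw [hm]; exact one_ne_zero)
  have := single hx h hc (by rw [classInner_sub_one hm, sub_self]) (N := 3)
    (by simp [h2, map_ofNat]; norm_num) (by norm_num) (by simp [e]; norm_num)
  omega

/-- The possible values at `x`. -/
theorem value_cases (hx : x ≠ 1) (h : Hyp x 4) {χ : G → ℂ} (hχ : Cfsg.IsIrrCharacter G χ)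
    (hne : χ ≠ fun _ => 1) :
    IsThree x χ ∨ χ x = 0 ∨ ∃ n : ℕ, 5 ≤ n ∧ χ 1 = n ∧ χ x = (n : ℂ) - 4 := by
  haveI := Fintype.ofFinite G
  obtain ⟨n, hn, hn2, hv⟩ := exists_degree_two_le hx h hχ hne
  rcases hv with e | e
  swap; · exact Or.inr (Or.inl e)
  rcases (by omega : n = 2 ∨ n = 3 ∨ n = 4 ∨ 5 ≤ n) with rfl | rfl | rfl | h5
  · exact Or.inr (Or.inl (two_apply_eq_zero hx h hχ (by exact_mod_cast hn)))
  · exact Or.inl ⟨hχ, by exact_mod_cast hn, e.trans (by norm_num)⟩
  · exact Or.inr (Or.inl (e.trans (by norm_num)))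
  · exact Or.inr (Or.inr ⟨n, h5, hn, e⟩)

theorem IsThree.ne_one {χ : G → ℂ} (hχ : IsThree x χ) : χ ≠ fun _ => 1 := fun e => by
  have := hχ.2.1
  simp [e] at this

theorem classInner_sq_one [Fintype G] {χ : G → ℂ} (hχ : IsThree x χ) :
    Cfsg.classInner (χ * χ) (fun _ => (1 : ℂ)) = Cfsg.classInner χ (fun g => conj (χ g)) ∧
      Cfsg.classInner (sq χ) (fun _ => (1 : ℂ)) = Cfsg.classInner χ (fun g => conj (χ g)) := by
  have h1 : Cfsg.classInner (χ * χ) (fun _ => (1 : ℂ)) = Cfsg.classInner χ (fun g => conj (χ g)) := by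
    simp [Cfsg.classInner]
  refine ⟨h1, ?_⟩
  rw [sq, classInner_sub_left, h1,
    IsIrrCharacter.classInner_of_ne (IsIrrCharacter.conj hχ.1) isIrrCharacter_one (fun e => ?_), sub_zero]
  exact hχ.ne_one (funext fun g => by simpa using congrArg conj (congrFun e g))

theorem IsThree.sq_spec [Fintype G] (hx : x ≠ 1) (h : Hyp x 4) {χ : G → ℂ} (hχ : IsThree x χ) :
    Cfsg.IsCharacter G (sq χ) ∧ sq χ 1 = 6 ∧ sq χ x = 2 := by
  refine ⟨(isCharacter_sq_sub (perfect hx h) hχ.1 hχ.2.1).1, ?_, ?_⟩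
  · simp [sq, hχ.2.1, map_ofNat]; norm_num
  · simp [sq, hχ.2.2]; norm_num

/-- The square of a non-real one. -/
theorem IsThree.sq_irr [Fintype G] (hx : x ≠ 1) (h : Hyp x 4) {χ : G → ℂ} (hχ : IsThree x χ)
    (hr : ¬ IsReal χ) : Cfsg.IsIrrCharacter G (sq χ) ∧ sq χ 1 = 6 ∧ sq χ x = 2 := by
  obtain ⟨hc, h1, hv⟩ := hχ.sq_spec hx h
  refine ⟨(single hx h hc ?_ (N := 6) (by exact_mod_cast h1) le_rfl (by simp [hv])).1, h1, hv⟩
  rw [(classInner_sq_one hχ).2, IsIrrCharacter.classInner_of_ne hχ.1 (IsIrrCharacter.conj hχ.1)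
    (fun e => hr e.symm)]

/-- The five-dimensional constituent of the square of a real one. -/
noncomputable def five (χ : G → ℂ) : G → ℂ :=
  sq χ - fun _ => 1

theorem IsThree.five_irr [Fintype G] (hx : x ≠ 1) (h : Hyp x 4) {χ : G → ℂ} (hχ : IsThree x χ)
    (hr : IsReal χ) : Cfsg.IsIrrCharacter G (five χ) ∧ five χ 1 = 5 ∧ five χ x = 1 := by
  obtain ⟨hc, h1, hv⟩ := hχ.sq_spec hx h
  have hm : Cfsg.classInner (sq χ) (fun _ => (1 : ℂ)) = 1 := by
    rw [(classInner_sq_one hχ).2, show (fun g => conj (χ g)) = χ from hr,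
      IsIrrCharacter.classInner_self hχ.1]
  have e1 : five χ 1 = 5 := by simp [five, h1]; norm_num
  have ev : five χ x = 1 := by simp [five, hv]; norm_num
  exact ⟨(single hx h (IsCharacter.sub_irr hc isIrrCharacter_one (by rw [hm]; exact one_ne_zero))
    (by rw [classInner_sub_one hm, sub_self]) (N := 5) (by exact_mod_cast e1) (by norm_num)
    (show (0 : ℝ) < (five χ x).re by simp [ev])).1, e1, ev⟩

/-- The squared absolute value. -/
noncomputable def mag (χ : G → ℂ) : G → ℂ :=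
  χ * fun g => conj (χ g)

/-- The product of one and the conjugate of another is not irreducible. -/
theorem mag_inner_ne_one [Fintype G] (hx : x ≠ 1) (h : Hyp x 4) {χ θ : G → ℂ} (hχ : IsThree x χ)
    (hθ : IsThree x θ) : Cfsg.classInner (mag χ) (mag θ) ≠ 1 := by
  intro e
  have hirr : Cfsg.IsIrrCharacter G (χ * fun g => conj (θ g)) := by
    refine IsCharacter.isIrrCharacter_of_classInner_self (IsCharacter.mul (IsIrrCharacter.isCharacter hχ.1)
      (IsCharacter.conj (IsIrrCharacter.isCharacter hθ.1))) ?_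
    rw [← e]
    simp only [mag, Cfsg.classInner, Pi.mul_apply, map_mul, Complex.conj_conj]
    refine congrArg _ (Finset.sum_congr rfl fun g _ => ?_)
    ring
  obtain ⟨n, hn, -, hv⟩ := exists_degree_two_le hx h hirr fun e' => by
    have := congrFun e' 1
    simp [hχ.2.1, hθ.2.1, map_ofNat] at this
    norm_num at this
  have h9 : n = 9 := by
    simp [hχ.2.1, hθ.2.1, map_ofNat] at hn
    norm_num at hn
    exact_mod_cast hn.symm
  subst h9
  simp [hχ.2.2, hθ.2.2] at hv
  norm_num at hv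

theorem classInner_mag_one [Fintype G] {χ : G → ℂ} (hχ : Cfsg.IsIrrCharacter G χ) :
    Cfsg.classInner (mag χ) (fun _ => (1 : ℂ)) = 1 := by
  refine Eq.trans ?_ (IsIrrCharacter.classInner_self hχ)
  simp [mag, Cfsg.classInner]

/-- The eight-dimensional constituent of the squared absolute value of a non-real one. -/
theorem IsThree.ad_irr [Fintype G] (hx : x ≠ 1) (h : Hyp x 4) {χ : G → ℂ} (hχ : IsThree x χ)
    (hr : ¬ IsReal χ) :
    Cfsg.IsIrrCharacter G (mag χ - fun _ => 1) ∧ (mag χ - fun _ : G => (1 : ℂ)) 1 = 8 := by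
  obtain ⟨hi, hs1, -⟩ := hχ.sq_irr hx h hr
  have hm := classInner_mag_one hχ.1
  have h2 : Cfsg.classInner (mag χ) (mag χ) = 2 := by
    have e : Cfsg.classInner (mag χ) (mag χ) = Cfsg.classInner (χ * χ) (χ * χ) := by
      simp only [mag, Cfsg.classInner, Pi.mul_apply, map_mul, Complex.conj_conj]
      refine congrArg _ (Finset.sum_congr rfl fun g _ => ?_)
      ring
    have n1 : (fun g => conj (χ g)) ≠ sq χ := fun e' => by
      have := congrFun e' 1
      simp [hχ.2.1, hs1, map_ofNat] at this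
    rw [e, show χ * χ = (fun g => conj (χ g)) + sq χ by simp [sq], classInner_add_left,
      classInner_add_right, classInner_add_right, IsIrrCharacter.classInner_self hi,
      IsIrrCharacter.classInner_self (IsIrrCharacter.conj hχ.1),
      IsIrrCharacter.classInner_of_ne (IsIrrCharacter.conj hχ.1) hi n1,
      IsIrrCharacter.classInner_of_ne hi (IsIrrCharacter.conj hχ.1) n1.symm]
    norm_num
  refine ⟨IsCharacter.isIrrCharacter_of_classInner_self (IsCharacter.sub_irr
    (IsCharacter.mul (IsIrrCharacter.isCharacter hχ.1) (IsCharacter.conj (IsIrrCharacter.isCharacter hχ.1)))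
    isIrrCharacter_one (by change Cfsg.classInner (mag χ) _ ≠ 0; rw [hm]; exact one_ne_zero)) ?_, ?_⟩
  · change Cfsg.classInner (mag χ - fun _ => 1) (mag χ - fun _ => 1) = 1
    have hm' : Cfsg.classInner (fun _ => (1 : ℂ)) (mag χ) = 1 := by
      refine Eq.trans ?_ (IsIrrCharacter.classInner_self hχ.1)
      simp [mag, Cfsg.classInner, mul_comm]
    rw [classInner_sub_left, classInner_sub_right,
      classInner_sub_right, h2, hm, hm', classInner_one_one]
    norm_num
  · simp [mag, hχ.2.1, map_ofNat]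
    norm_num

theorem mag_eq_of_real [Fintype G] {χ : G → ℂ} (hr : IsReal χ) :
    mag χ = (fun _ => (1 : ℂ)) + χ + five χ := by
  funext g
  simp [mag, five, sq, show conj (χ g) = χ g from congrFun hr g]
  ring

/-- Real and non-real ones do not occur together. -/
theorem real_of_real [Fintype G] (hx : x ≠ 1) (h : Hyp x 4) {χ θ : G → ℂ} (hχ : IsThree x χ)
    (hθ : IsThree x θ) (hχr : IsReal χ) : IsReal θ := by
  by_contra hθr
  obtain ⟨hi, hs1, -⟩ := hχ.five_irr hx h hχr
  obtain ⟨hi', hs1'⟩ := hθ.ad_irr hx h hθr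
  refine mag_inner_ne_one hx h hχ hθ ?_
  have n3 : χ ≠ mag θ - fun _ => 1 := fun e' => by
    rw [← e', hχ.2.1] at hs1'
    norm_num at hs1'
  have n5 : five χ ≠ mag θ - fun _ => 1 := fun e' => by
    rw [← e', hs1] at hs1'
    norm_num at hs1'
  have n1 : (fun _ => (1 : ℂ)) ≠ mag θ - fun _ => 1 := fun e' => by
    rw [← e'] at hs1'
    norm_num at hs1'
  have n51 : five χ ≠ fun _ => 1 := fun e' => by
    rw [e'] at hs1
    norm_num at hs1
  rw [mag_eq_of_real hχr,
    show mag θ = (fun _ => (1 : ℂ)) + (mag θ - fun _ => 1) from (add_sub_cancel _ _).symm]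
  simp only [classInner_add_left, classInner_add_right, classInner_one_one]
  rw [IsIrrCharacter.classInner_of_ne isIrrCharacter_one hi' n1,
    IsIrrCharacter.classInner_of_ne hχ.1 isIrrCharacter_one hχ.ne_one,
    IsIrrCharacter.classInner_of_ne hχ.1 hi' n3,
    IsIrrCharacter.classInner_of_ne hi isIrrCharacter_one n51,
    IsIrrCharacter.classInner_of_ne hi hi' n5]
  ring

/-- The non-real ones have the same absolute values. -/
theorem mag_eq [Fintype G] (hx : x ≠ 1) (h : Hyp x 4) {χ θ : G → ℂ} (hχ : IsThree x χ)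
    (hθ : IsThree x θ) (hχr : ¬ IsReal χ) (hθr : ¬ IsReal θ) : mag χ = mag θ := by
  by_contra hne
  obtain ⟨hi, hs1⟩ := hχ.ad_irr hx h hχr
  obtain ⟨hi', hs1'⟩ := hθ.ad_irr hx h hθr
  refine mag_inner_ne_one hx h hχ hθ ?_
  have n1 : ∀ f : G → ℂ, f 1 = 8 → (fun _ => (1 : ℂ)) ≠ f := fun f hf e' => by
    rw [← e'] at hf
    norm_num at hf
  rw [show mag θ = (fun _ => (1 : ℂ)) + (mag θ - fun _ => 1) from (add_sub_cancel _ _).symm,
    show mag χ = (fun _ => (1 : ℂ)) + (mag χ - fun _ => 1) from (add_sub_cancel _ _).symm]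
  simp only [classInner_add_left, classInner_add_right, classInner_one_one]
  rw [IsIrrCharacter.classInner_of_ne isIrrCharacter_one hi' (n1 _ hs1'),
    IsIrrCharacter.classInner_of_ne hi isIrrCharacter_one (n1 _ hs1).symm,
    IsIrrCharacter.classInner_of_ne hi hi' fun e => hne (sub_left_inj.1 e)]
  ring

/-- All real ones share the five-dimensional constituent. -/
theorem five_eq [Fintype G] (hx : x ≠ 1) (h : Hyp x 4) {χ θ : G → ℂ} (hχ : IsThree x χ)
    (hθ : IsThree x θ) (hχr : IsReal χ) (hθr : IsReal θ) : five χ = five θ := by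
  by_contra hne
  have hne' : χ ≠ θ := fun e => hne (e ▸ rfl)
  obtain ⟨hi, hs1, -⟩ := hχ.five_irr hx h hχr
  obtain ⟨hi', hs1', -⟩ := hθ.five_irr hx h hθr
  refine mag_inner_ne_one hx h hχ hθ ?_
  have n3 : ∀ φ ψ : G → ℂ, IsThree x φ → ψ 1 = 5 → φ ≠ ψ := fun φ ψ hφ hψ e' => by
    rw [← e', hφ.2.1] at hψ
    norm_num at hψ
  have n5 : ∀ ψ : G → ℂ, ψ 1 = 5 → (fun _ => (1 : ℂ)) ≠ ψ := fun ψ hψ e' => by
    rw [← e'] at hψ
    norm_num at hψ
  rw [mag_eq_of_real hχr, mag_eq_of_real hθr]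
  simp only [classInner_add_left, classInner_add_right, classInner_one_one]
  rw [IsIrrCharacter.classInner_of_ne isIrrCharacter_one hθ.1 hθ.ne_one.symm,
    IsIrrCharacter.classInner_of_ne isIrrCharacter_one hi' (n5 _ hs1'),
    IsIrrCharacter.classInner_of_ne hχ.1 isIrrCharacter_one hχ.ne_one,
    IsIrrCharacter.classInner_of_ne hχ.1 hθ.1 hne',
    IsIrrCharacter.classInner_of_ne hχ.1 hi' (n3 _ _ hχ hs1'),
    IsIrrCharacter.classInner_of_ne hi isIrrCharacter_one (n5 _ hs1).symm,
    IsIrrCharacter.classInner_of_ne hi hθ.1 (n3 _ _ hθ hs1).symm,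
    IsIrrCharacter.classInner_of_ne hi hi' hne]
  ring

end CfsgLib.Char.FourDrop
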