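import Cfsg.Agent.Char.FourDrop.Cubic
import Cfsg.Agent.Char.Burnside
import Cfsg.Agent.Dickson.Tame

/-!
# Perfect groups with a faithful real three-dimensional character have order sixty

Every non-trivial element fixes exactly one line, and the pointwise stabilisers of these lines
partition the group.
-/

set_option autoImplicit false
set_option linter.style.haveILetI false
set_option linter.unusedSectionVars false

namespace CfsgLib.Char.FourDrop

open scoped ComplexConjugate
open Matrix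

universe u

variable {Q : Type u} [Group Q] [Finite Q]

/-- The pointwise stabiliser of the vectors fixed by `g`. -/
def fixStab (ρ : Representation ℂ Q (Fin 3 → ℂ)) (g : Q) : Subgroup Q where
  carrier := {h | ∀ v, ρ g v = v → ρ h v = v}
  one_mem' := fun v _ => by simp
  mul_mem' := fun {a b} ha hb v hv => by rw [map_mul, Module.End.mul_apply, hb v hv, ha v hv]
  inv_mem' := fun {a} ha v hv => by
    conv_lhs => rw [← ha v hv, ← Module.End.mul_apply, ← map_mul, inv_mul_cancel, map_one,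
      Module.End.one_apply]

theorem mem_fixStab {ρ : Representation ℂ Q (Fin 3 → ℂ)} {g h : Q} :
    h ∈ fixStab ρ g ↔ ∀ v, ρ g v = v → ρ h v = v := Iff.rfl

theorem self_mem_fixStab (ρ : Representation ℂ Q (Fin 3 → ℂ)) (g : Q) : g ∈ fixStab ρ g :=
  fun _ hv => hv

theorem conj_mem_fixStab {ρ : Representation ℂ Q (Fin 3 → ℂ)} {g h : Q} (a : Q)
    (hh : h ∈ fixStab ρ g) : a * h * a⁻¹ ∈ fixStab ρ (a * g * a⁻¹) := by
  intro v hv
  simp only [map_mul, Module.End.mul_apply] at hv ⊢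
  have h1 : ρ g (ρ a⁻¹ v) = ρ a⁻¹ v := by
    have := congrArg (ρ a⁻¹) hv
    rwa [← Module.End.mul_apply, ← map_mul, inv_mul_cancel, map_one, Module.End.one_apply] at this
  rw [hh _ h1, ← Module.End.mul_apply, ← map_mul, mul_inv_cancel, map_one, Module.End.one_apply]

theorem exists_fixed (hperf : commutator Q = ⊤) (ρ : Representation ℂ Q (Fin 3 → ℂ))
    (hreal : ∀ g, conj (ρ.character g) = ρ.character g) (g : Q) : ∃ v, v ≠ 0 ∧ ρ g v = v := by
  have hdet : ∀ A : Matrix (Fin 3) (Fin 3) ℂ, (A - 1).det = A.det - A.adjugate.trace + A.trace - 1 := by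
    intro A
    rw [adjugate_fin_three, det_fin_three, det_fin_three]
    simp [trace_fin_three]
    ring
  have h0 : (mat ρ g - 1).det = 0 := by
    rw [hdet, det_mat_eq_one hperf, trace_adjugate_three, ← mat_mul, trace_mat, trace_mat,
      ← conj_apply_eq hperf ρ g, hreal]
    ring
  obtain ⟨v, hv, hv0⟩ := Matrix.exists_mulVec_eq_zero_iff.2 h0
  refine ⟨v, hv, ?_⟩
  rw [sub_mulVec, one_mulVec, sub_eq_zero] at hv0
  rwa [mat, LinearMap.toMatrix'_mulVec] at hv0

theorem fixed_line (hperf : commutator Q = ⊤) (ρ : Representation ℂ Q (Fin 3 → ℂ))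
    (hreal : ∀ g, conj (ρ.character g) = ρ.character g)
    (hf : ∀ g, ρ.character g = 3 → g = 1) {g : Q} (hg : g ≠ 1) {v w : Fin 3 → ℂ} (hv0 : v ≠ 0)
    (hv : ρ g v = v) (hw : ρ g w = w) : ∃ c : ℂ, w = c • v := by
  by_contra hne
  let C := Subgroup.zpowers g
  haveI := Fintype.ofFinite C
  let σ : Representation ℂ C (Fin 3 → ℂ) := ρ.comp C.subtype
  have hinv : ∀ u, ρ g u = u → u ∈ σ.invariants := fun u hu y => by
    have hle : C ≤ fixStab ρ g := Subgroup.zpowers_le.2 (self_mem_fixStab ρ g)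
    exact hle y.2 u hu
  have h2 : 2 ≤ Module.finrank ℂ σ.invariants := by
    have hli : LinearIndependent ℂ ![(⟨v, hinv v hv⟩ : σ.invariants), ⟨w, hinv w hw⟩] := by
      rw [LinearIndependent.pair_iff' fun e => hv0 (congrArg Subtype.val e)]
      exact fun c e => hne ⟨c, (congrArg Subtype.val e).symm⟩
    simpa using hli.fintype_card_le_finrank
  have hchar : Cfsg.IsCharacter C σ.character := isCharacter_character σ
  have hin : Cfsg.classInner σ.character (fun _ => (1 : ℂ)) = (Module.finrank ℂ σ.invariants : ℂ) := by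
    haveI : Invertible (Nat.card C : ℂ) := invertibleOfNonzero (Nat.cast_ne_zero.2 Nat.card_pos.ne')
    rw [← σ.card_inv_mul_sum_char_eq_finrank]
    simp [Cfsg.classInner]
  have hc1 := IsCharacter.sub_irr hchar isIrrCharacter_one (by
    rw [hin, Nat.cast_ne_zero]; omega)
  have hc2 := IsCharacter.sub_irr hc1 isIrrCharacter_one (by
    rw [classInner_sub_left, hin, classInner_one_one, sub_ne_zero]
    exact_mod_cast (by omega : Module.finrank ℂ σ.invariants ≠ 1))
  obtain ⟨lam, hlam⟩ := IsCharacter.exists_hom hc2 (by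
    simp only [Pi.sub_apply]
    rw [σ.char_one, Module.finrank_fin_fun]
    norm_num)
  have hval : ∀ y : C, ρ.character (y : Q) = 2 + (lam y : ℂ) := fun y => by
    have := congrFun hlam y
    simp only [Pi.sub_apply] at this
    change σ.character y = _
    linear_combination this
  let gC : C := ⟨g, Subgroup.mem_zpowers g⟩
  have e1 := hval gC
  have e2 := hval (gC * gC)
  rw [map_mul, Units.val_mul] at e2
  have e3 := conj_apply_eq hperf ρ g
  rw [hreal] at e3
  refine hg (hf g ?_)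
  have hg1 : (lam gC : ℂ) = 1 := by
    simp only [gC, Subgroup.coe_mul] at e1 e2 ⊢
    rw [e1, e2] at e3
    linear_combination -e3
  rw [show g = (gC : Q) from rfl, e1, hg1]
  norm_num

theorem fixStab_eq (hperf : commutator Q = ⊤) (ρ : Representation ℂ Q (Fin 3 → ℂ))
    (hreal : ∀ g, conj (ρ.character g) = ρ.character g)
    (hf : ∀ g, ρ.character g = 3 → g = 1) {g h : Q} (hg : g ≠ 1) (hh : h ≠ 1)
    (hmem : h ∈ fixStab ρ g) : fixStab ρ h = fixStab ρ g := by
  obtain ⟨v, hv0, hv⟩ := exists_fixed hperf ρ hreal g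
  have hiff : ∀ w, ρ h w = w ↔ ρ g w = w := fun w => by
    refine ⟨fun hw => ?_, fun hw => hmem w hw⟩
    obtain ⟨c, rfl⟩ := fixed_line hperf ρ hreal hf hh hv0 (hmem v hv) hw
    rw [map_smul, hv]
  ext y
  simp only [mem_fixStab, hiff]

/-- The normaliser contains the stabiliser with index at most two and is proper. -/
theorem normalizer_spec (hperf : commutator Q = ⊤) (ρ : Representation ℂ Q (Fin 3 → ℂ))
    (hirr : Cfsg.IsIrrCharacter Q ρ.character) (hreal : ∀ g, conj (ρ.character g) = ρ.character g)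
    (hf : ∀ g, ρ.character g = 3 → g = 1) {g : Q} (hg : g ≠ 1) :
    (Nat.card (Subgroup.normalizer (fixStab ρ g : Set Q)) = Nat.card (fixStab ρ g) ∨
      Nat.card (Subgroup.normalizer (fixStab ρ g : Set Q)) = 2 * Nat.card (fixStab ρ g)) ∧
      (Subgroup.normalizer (fixStab ρ g : Set Q)).index ≠ 1 := by
  classical
  set M := fixStab ρ g with hM
  set D := Subgroup.normalizer (M : Set Q) with hD
  haveI := Fintype.ofFinite M
  obtain ⟨v, hv0, hv⟩ := exists_fixed hperf ρ hreal g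
  have hline : ∀ w, ρ g w = w → ∃ c : ℂ, w = c • v := fun w hw => fixed_line hperf ρ hreal hf hg hv0 hv hw
  have hmemv : ∀ y, y ∈ M ↔ ρ y v = v := fun y => ⟨fun hy => hy v hv, fun hy w hw => by
    obtain ⟨c, rfl⟩ := hline w hw
    rw [map_smul, hy]⟩
  have hscal : ∀ h ∈ D, ρ h v = v ∨ ρ h v = -v := by
    intro h hh
    obtain ⟨c, hc⟩ := hline (ρ h v) (by
      have h1 : h⁻¹ * g * h ∈ M := by
        have := (Subgroup.mem_normalizer_iff'.1 hh (h⁻¹ * g)).2
          (by rw [← mul_assoc, mul_inv_cancel, one_mul]; exact self_mem_fixStab ρ g)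
        exact this
      have := congrArg (ρ h) (h1 v hv)
      rwa [← Module.End.mul_apply, ← map_mul, show h * (h⁻¹ * g * h) = g * h by group, map_mul,
        Module.End.mul_apply] at this)
    have hn : c ^ orderOf h = 1 := by
      have hp : ∀ n : ℕ, ρ (h ^ n) v = c ^ n • v := fun n => by
        induction n with
        | zero => simp
        | succ n ih => rw [pow_succ', map_mul, Module.End.mul_apply, ih, map_smul, hc, smul_smul, ← pow_succ]
      have := hp (orderOf h)
      rw [pow_orderOf_eq_one, map_one, Module.End.one_apply] at this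
      have h0 : (c ^ orderOf h - 1) • v = 0 := by rw [sub_smul, one_smul, ← this, sub_self]
      exact sub_eq_zero.1 ((smul_eq_zero.1 h0).resolve_right hv0)
    let σ : Representation ℂ M (Fin 3 → ℂ) := ρ.comp M.subtype
    haveI : Invertible (Nat.card M : ℂ) := invertibleOfNonzero (Nat.cast_ne_zero.2 Nat.card_pos.ne')
    set S : (Fin 3 → ℂ) →ₗ[ℂ] (Fin 3 → ℂ) := ∑ y : M, ρ (y : Q) with hS
    have hSline : ∀ x, ∃ a : ℂ, S x = a • v := fun x => by
      refine hline _ ?_
      rw [hS, LinearMap.sum_apply, map_sum]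
      refine Fintype.sum_equiv (Equiv.mulLeft ⟨g, self_mem_fixStab ρ g⟩) _ _ fun y => ?_
      simp
    have hcomp : ρ h * S = c • S := by
      refine LinearMap.ext fun x => ?_
      obtain ⟨a, ha⟩ := hSline x
      rw [Module.End.mul_apply, LinearMap.smul_apply, ha, map_smul, hc, smul_comm]
    have htr := congrArg (LinearMap.trace ℂ (Fin 3 → ℂ)) hcomp
    rw [hS, Finset.mul_sum, map_sum, map_smul, map_sum, smul_eq_mul] at htr
    simp only [← map_mul] at htr
    have hf0 := σ.card_inv_mul_sum_char_eq_finrank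
    have hpos : 0 < Module.finrank ℂ σ.invariants := by
      haveI : Nontrivial σ.invariants :=
        ⟨⟨v, fun y => (hmemv y).1 y.2⟩, 0, fun e => hv0 (congrArg Subtype.val e)⟩
      exact Module.finrank_pos
    have htot : ∑ y : M, LinearMap.trace ℂ (Fin 3 → ℂ) (ρ (y : Q))
        = (Nat.card M : ℂ) * (Module.finrank ℂ σ.invariants : ℂ) := by
      rw [← hf0, ← mul_assoc, mul_inv_cancel₀ (Nat.cast_ne_zero.2 Nat.card_pos.ne'), one_mul]
      rfl
    rw [htot] at htr
    have hcr : conj c = c := by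
      have h1 := congrArg conj htr
      rw [map_sum, map_mul, map_mul, Complex.conj_natCast, Complex.conj_natCast,
        Finset.sum_congr rfl (fun (y : M) _ => show conj (LinearMap.trace ℂ (Fin 3 → ℂ) (ρ (h * (y : Q))))
          = LinearMap.trace ℂ (Fin 3 → ℂ) (ρ (h * (y : Q))) from hreal _), htr] at h1
      exact (mul_right_cancel₀ (mul_ne_zero (Nat.cast_ne_zero.2 Nat.card_pos.ne')
        (Nat.cast_ne_zero.2 hpos.ne')) h1).symm
    obtain ⟨r, hr⟩ := Complex.conj_eq_iff_real.1 hcr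
    rw [hr] at hn hc
    have hn' : r ^ orderOf h = 1 := by exact_mod_cast hn
    rcases (pow_eq_one_iff_of_ne_zero (orderOf_pos h).ne').1 hn' with e | ⟨e, -⟩
    · left; rw [hc, e, Complex.ofReal_one, one_smul]
    · right; rw [hc, e, Complex.ofReal_neg, Complex.ofReal_one, neg_one_smul]
  have hMD : M ≤ D := Subgroup.le_normalizer
  refine ⟨?_, fun hidx => ?_⟩
  · by_cases hall : ∀ h ∈ D, h ∈ M
    · exact Or.inl (congrArg (fun K : Subgroup Q => Nat.card K) (le_antisymm hall hMD))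
    · push Not at hall
      obtain ⟨a, ha, haM⟩ := hall
      right
      have hav : ρ a v = -v := (hscal a ha).resolve_left fun e => haM ((hmemv a).2 e)
      have hsub : (D : Set Q) ⊆ (M : Set Q) ∪ (fun y => a * y) '' (M : Set Q) := by
        intro b hb
        by_cases hbM : b ∈ M
        · exact Or.inl hbM
        · refine Or.inr ⟨a⁻¹ * b, (hmemv _).2 ?_, mul_inv_cancel_left a b⟩
          have hbv : ρ b v = -v := (hscal b hb).resolve_left fun e => hbM ((hmemv b).2 e)
          rw [map_mul, Module.End.mul_apply, hbv, ← hav, ← Module.End.mul_apply, ← map_mul,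
            inv_mul_cancel, map_one, Module.End.one_apply]
      have hle : Nat.card D ≤ 2 * Nat.card M := by
        have := (Set.ncard_le_ncard hsub (Set.toFinite _)).trans (Set.ncard_union_le _ _)
        rw [Set.ncard_image_of_injective _ (mul_right_injective a)] at this
        simp only [← Nat.card_coe_set_eq] at this
        exact this.trans (le_of_eq (two_mul _).symm)
      have hlt : Nat.card M < Nat.card D := lt_of_le_of_ne (Subgroup.card_le_of_le hMD) fun e =>
        haM ((Subgroup.eq_of_le_of_card_ge hMD e.ge).symm ▸ ha)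
      obtain ⟨k, hk⟩ := Subgroup.card_dvd_of_le hMD
      have hMpos : 0 < Nat.card M := Nat.card_pos
      obtain rfl : k = 2 := by
        rw [hk] at hle hlt
        have : k ≤ 2 := Nat.le_of_mul_le_mul_left (by rwa [mul_comm 2] at hle) hMpos
        rcases (by omega : k = 0 ∨ k = 1 ∨ k = 2) with rfl | rfl | rfl <;> omega
      rw [hk, mul_comm]
  · rw [Subgroup.index_eq_one] at hidx
    let lam : Q → ℂ := fun h => if ρ h v = v then 1 else -1
    have hlam : ∀ h, ρ h v = lam h • v := fun h => by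
      by_cases e : ρ h v = v
      · simp [lam, e]
      · simp only [lam, if_neg e, neg_one_smul]
        exact (hscal h (hidx ▸ Subgroup.mem_top h)).resolve_left e
    have hinj : ∀ a b : ℂ, a • v = b • v → a = b := fun a b e => by
      rw [← sub_eq_zero, ← sub_smul] at e
      exact sub_eq_zero.1 ((smul_eq_zero.1 e).resolve_right hv0)
    let f : Q →* ℂ :=
      { toFun := lam
        map_one' := by simp [lam]
        map_mul' := fun a b => hinj _ _ (by
          rw [← hlam, map_mul, Module.End.mul_apply, hlam b, map_smul, hlam a, smul_smul, mul_comm]) }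
    have hfix : ∀ h, ρ h v = v := fun h => by
      have h1 : f.toHomUnits h = 1 := MonoidHom.mem_ker.1
        ((Abelianization.commutator_subset_ker f.toHomUnits) (by rw [hperf]; trivial))
      have h2 : lam h = 1 := congrArg Units.val h1
      rw [hlam, h2, one_smul]
    haveI := Fintype.ofFinite Q
    haveI : Invertible (Nat.card Q : ℂ) := invertibleOfNonzero (Nat.cast_ne_zero.2 Nat.card_pos.ne')
    haveI : Nontrivial ρ.invariants :=
      ⟨⟨v, hfix⟩, 0, fun e => hv0 (congrArg Subtype.val e)⟩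
    have h0 : Cfsg.classInner ρ.character (fun _ => (1 : ℂ)) = 0 :=
      IsIrrCharacter.classInner_of_ne hirr isIrrCharacter_one fun e => by
        have := congrFun e 1
        simp [ρ.char_one] at this
    have h1 : Cfsg.classInner ρ.character (fun _ => (1 : ℂ)) = (Module.finrank ℂ ρ.invariants : ℂ) := by
      rw [← ρ.card_inv_mul_sum_char_eq_finrank]
      simp [Cfsg.classInner]
    rw [h0, eq_comm, Nat.cast_eq_zero] at h1
    exact absurd h1 (Module.finrank_pos (R := ℂ) (M := ρ.invariants)).ne'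

open scoped Classical in
/-- The non-trivial elements conjugate into the stabiliser. -/
noncomputable def conjUnion [Fintype Q] (M : Subgroup Q) : Finset Q :=
  Finset.univ.filter fun k => k ≠ 1 ∧ ∃ a : Q, a * k * a⁻¹ ∈ M

theorem card_conjUnion [Fintype Q] (M : Subgroup Q)
    (hTI : ∀ s ∈ M, s ≠ 1 → ∀ a : Q, a * s * a⁻¹ ∈ M → a ∈ Subgroup.normalizer (M : Set Q)) :
    (conjUnion M).card * Nat.card (Subgroup.normalizer (M : Set Q))
      = Nat.card Q * (Nat.card M - 1) := by
  classical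
  set D := Subgroup.normalizer (M : Set Q)
  let A : Finset (Q × Q) := Finset.univ ×ˢ ((Finset.univ.filter fun s => s ∈ M).erase 1)
  have hA : A.card = Nat.card Q * (Nat.card M - 1) := by
    rw [Finset.card_product, Finset.card_univ, Finset.card_erase_of_mem (by simp),
      ← Nat.card_eq_fintype_card, ← Fintype.card_subtype, ← Nat.card_eq_fintype_card]
  have hmaps : ∀ p ∈ A, p.1⁻¹ * p.2 * p.1 ∈ conjUnion M := by
    intro p hp
    obtain ⟨hp2, hpM⟩ : p.2 ≠ 1 ∧ p.2 ∈ M := by
      simpa [A] using hp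
    refine Finset.mem_filter.2 ⟨Finset.mem_univ _, fun e => hp2 ?_, p.1, ?_⟩
    · have := congrArg (fun t => p.1 * t * p.1⁻¹) e
      simpa [mul_assoc] using this
    · simpa [mul_assoc] using hpM
  have hfib : ∀ k ∈ conjUnion M,
      (A.filter fun p => p.1⁻¹ * p.2 * p.1 = k).card = Nat.card D := by
    intro k hk
    simp only [conjUnion, Finset.mem_filter, Finset.mem_univ, true_and] at hk
    obtain ⟨hk1, a, ha⟩ := hk
    have hs1 : a * k * a⁻¹ ≠ 1 := by rwa [Ne, conj_eq_one_iff]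
    rw [Nat.card_eq_fintype_card, Fintype.card_subtype]
    symm
    refine Finset.card_bij (fun b _ => (b * a, b * (a * k * a⁻¹) * b⁻¹)) ?_ ?_ ?_
    · intro b hb
      have hbD : b ∈ D := (Finset.mem_filter.1 hb).2
      simp only [A, Finset.mem_filter, Finset.mem_product, Finset.mem_univ, true_and, Finset.mem_erase]
      exact ⟨⟨by rwa [Ne, conj_eq_one_iff], (Subgroup.mem_normalizer_iff.1 hbD _).1 ha⟩, by group⟩
    · intro b _ b' _ e
      exact mul_right_cancel (congrArg Prod.fst e)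
    · rintro ⟨c, s⟩ hp
      simp only [A, Finset.mem_filter, Finset.mem_product, Finset.mem_univ, true_and, Finset.mem_erase] at hp
      obtain ⟨⟨hs, hsM⟩, rfl⟩ := hp
      refine ⟨c * a⁻¹, Finset.mem_filter.2 ⟨Finset.mem_univ _, ?_⟩, ?_⟩
      · refine hTI _ ha hs1 _ ?_
        convert hsM using 1
        group
      · refine Prod.ext ?_ ?_ <;> simp only <;> group
  rw [← hA, Finset.card_eq_sum_card_fiberwise (t := conjUnion M) hmaps, Finset.sum_congr rfl hfib,
    Finset.sum_const, smul_eq_mul]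

theorem arith_two {N k l m n : ℕ} (hk : 2 ≤ k) (hl : 2 ≤ l) (hm : 2 ≤ m) (hn : 2 ≤ n)
    (h1 : k * m = N) (h2 : 2 * (l * n) = N) (h : k * (m - 1) + l * (n - 1) + 1 = N) : N = 12 := by
  obtain ⟨m, rfl⟩ := Nat.exists_eq_add_of_le hm
  obtain ⟨n, rfl⟩ := Nat.exists_eq_add_of_le hn
  simp only [show 2 + m - 1 = m + 1 by omega, show 2 + n - 1 = n + 1 by omega] at h
  rcases (by omega : m = 0 ∨ m = 1 ∨ 2 ≤ m) with rfl | rfl | h2m
  · nlinarith
  · rcases (by omega : n = 0 ∨ 1 ≤ n) with rfl | h1n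
    · omega
    · nlinarith
  · nlinarith

/-- A perfect group with a faithful real irreducible character of degree three has order sixty. -/
theorem card_eq_sixty (hperf : commutator Q = ⊤) {χ : Q → ℂ} (hχ : Cfsg.IsIrrCharacter Q χ)
    (h3 : χ 1 = 3) (hreal : ∀ g, conj (χ g) = χ g) (hf : ∀ g, χ g = 3 → g = 1) : Nat.card Q = 60 := by
  classical
  haveI := Fintype.ofFinite Q
  obtain ⟨d, ρ, hρ, rfl⟩ := id hχ
  obtain rfl : d = 3 := by
    rw [ρ.char_one, Module.finrank_fin_fun] at h3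
    exact_mod_cast h3
  set N := Nat.card Q with hN
  haveI : Nontrivial Q := by
    by_contra hnt
    rw [not_nontrivial_iff_subsingleton] at hnt
    have h0 : Cfsg.classInner ρ.character (fun _ => (1 : ℂ)) = 0 :=
      IsIrrCharacter.classInner_of_ne hχ isIrrCharacter_one fun e => by
        have := congrFun e 1
        simp [ρ.char_one] at this
    rw [Cfsg.classInner, Fintype.sum_subsingleton _ (1 : Q)] at h0
    simp [ρ.char_one] at h0
  have hpr : ∀ g : Q, g ≠ 1 → ∃ k m, 2 ≤ k ∧ 2 ≤ m ∧ (k * m = N ∨ 2 * (k * m) = N) ∧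
      (conjUnion (fixStab ρ g)).card = k * (m - 1) := by
    intro g hg
    set M := fixStab ρ g with hM
    obtain ⟨he, hidx⟩ := normalizer_spec hperf ρ hχ hreal hf hg
    rw [← hM] at he hidx
    have hci := (Subgroup.normalizer (M : Set Q)).card_mul_index
    have hU := card_conjUnion M fun s hs hs1 a has => by
      refine Subgroup.mem_normalizer_iff.2 fun y => ?_
      have e1 : fixStab ρ s = M := fixStab_eq hperf ρ hreal hf hg hs1 hs
      have e2 : fixStab ρ (a * s * a⁻¹) = M :=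
        fixStab_eq hperf ρ hreal hf hg (by rwa [Ne, conj_eq_one_iff]) has
      refine ⟨fun hy => e2 ▸ conj_mem_fixStab a (e1.symm ▸ hy), fun hy => ?_⟩
      have hy' : a⁻¹ * (a * y * a⁻¹) * a⁻¹⁻¹ ∈ fixStab ρ (a⁻¹ * (a * s * a⁻¹) * a⁻¹⁻¹) :=
        conj_mem_fixStab a⁻¹ (e2.symm ▸ hy)
      have eq : ∀ z : Q, a⁻¹ * (a * z * a⁻¹) * a⁻¹⁻¹ = z := fun z => by group
      rwa [eq, eq, e1] at hy'
    haveI : Nontrivial M := ⟨⟨g, self_mem_fixStab ρ g⟩, 1, fun e => hg (congrArg Subtype.val e)⟩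
    have hm : 2 ≤ Nat.card M := Finite.one_lt_card
    have hk0 : (Subgroup.normalizer (M : Set Q)).index ≠ 0 := Subgroup.index_ne_zero_of_finite
    refine ⟨(Subgroup.normalizer (M : Set Q)).index, Nat.card M, by omega, hm, ?_, ?_⟩
    · rcases he with e | e <;> rw [e] at hci
      · left; rw [hN, ← hci, mul_comm]
      · right; rw [hN, ← hci]; ring
    · refine Nat.eq_of_mul_eq_mul_right (Nat.card_pos (α := Subgroup.normalizer (M : Set Q))) ?_
      rw [hU, ← hci]; ring
  have hsub : ∀ g, conjUnion (fixStab ρ g) ⊆ Finset.univ.erase 1 := fun g k hk =>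
    Finset.mem_erase.2 ⟨(Finset.mem_filter.1 hk).2.1, Finset.mem_univ _⟩
  have hmemU : ∀ g : Q, g ≠ 1 → g ∈ conjUnion (fixStab ρ g) := fun g hg =>
    Finset.mem_filter.2 ⟨Finset.mem_univ _, hg, 1, by simpa using self_mem_fixStab ρ g⟩
  have hdis : ∀ g g' : Q, g ≠ 1 → g' ≠ 1 → g' ∉ conjUnion (fixStab ρ g) →
      Disjoint (conjUnion (fixStab ρ g)) (conjUnion (fixStab ρ g')) := by
    intro g g' hg hg' hn
    refine Finset.disjoint_left.2 fun k hk hk' => hn ?_
    obtain ⟨-, hk1, a, ha⟩ := Finset.mem_filter.1 hk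
    obtain ⟨-, -, b, hb⟩ := Finset.mem_filter.1 hk'
    have e1 := fixStab_eq hperf ρ hreal hf hg (by rwa [Ne, conj_eq_one_iff]) ha
    have e2 := fixStab_eq hperf ρ hreal hf hg' (by rwa [Ne, conj_eq_one_iff]) hb
    refine Finset.mem_filter.2 ⟨Finset.mem_univ _, hg', a * b⁻¹, ?_⟩
    have := conj_mem_fixStab (a * b⁻¹) (e2.symm ▸ self_mem_fixStab ρ g' : g' ∈ fixStab ρ (b * k * b⁻¹))
    rwa [show a * b⁻¹ * (b * k * b⁻¹) * (a * b⁻¹)⁻¹ = a * k * a⁻¹ by group, e1] at this
  have hex : ∀ T : Finset Q, T ⊆ Finset.univ.erase 1 → T.card + 1 < N → ∃ g, g ≠ 1 ∧ g ∉ T := by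
    intro T hT hlt
    by_contra! hall
    have h := Finset.card_le_card (show Finset.univ.erase 1 ⊆ T from fun g hg => hall g (Finset.mem_erase.1 hg).1)
    rw [Finset.card_erase_of_mem (Finset.mem_univ _), Finset.card_univ, ← Nat.card_eq_fintype_card, ← hN] at h
    omega
  have hcard : ∀ T : Finset Q, T ⊆ Finset.univ.erase 1 → T.card + 1 ≤ N := by
    intro T hT
    have h := Finset.card_le_card hT
    rw [Finset.card_erase_of_mem (Finset.mem_univ _), Finset.card_univ, ← Nat.card_eq_fintype_card, ← hN] at h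
    have : 0 < N := Nat.card_pos
    omega
  have hquarter : ∀ {k m w : ℕ}, 2 ≤ m → (k * m = N ∨ 2 * (k * m) = N) → w = k * (m - 1) →
      N ≤ 4 * w ∧ (k * m = N → N ≤ 2 * w) := by
    intro k m w hm h hw
    obtain ⟨m, rfl⟩ := Nat.exists_eq_add_of_le hm
    rw [show 2 + m - 1 = m + 1 by omega] at hw
    constructor
    · rcases h with e | e <;> nlinarith
    · intro e; nlinarith
  have hnot : ∀ {a b : ℕ}, N = 2 ^ a * 3 ^ b → False := by
    intro a b e
    haveI := isSolvable_of_card_eq (G := Q) 2 3 a b Nat.prime_two Nat.prime_three e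
    exact (Group.IsSolvable.commutator_lt_top_of_nontrivial Q).ne hperf
  obtain ⟨g₁, h1⟩ := exists_ne (1 : Q)
  obtain ⟨k₁, m₁, hk₁, hm₁, hN₁, hw₁⟩ := hpr g₁ h1
  set U₁ := conjUnion (fixStab ρ g₁) with hU₁
  have hle₁ := hcard U₁ (hsub g₁)
  by_cases hf1 : U₁.card + 1 = N
  · exfalso
    obtain ⟨m, rfl⟩ := Nat.exists_eq_add_of_le hm₁
    rw [show 2 + m - 1 = m + 1 by omega] at hw₁
    rcases hN₁ with e | e <;> nlinarith
  obtain ⟨g₂, h2, hg₂⟩ := hex U₁ (hsub g₁) (by omega)
  obtain ⟨k₂, m₂, hk₂, hm₂, hN₂, hw₂⟩ := hpr g₂ h2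
  set U₂ := conjUnion (fixStab ρ g₂) with hU₂
  have hd12 : Disjoint U₁ U₂ := hdis g₁ g₂ h1 h2 hg₂
  have hle₂ := hcard (U₁ ∪ U₂) (Finset.union_subset (hsub g₁) (hsub g₂))
  rw [Finset.card_union_of_disjoint hd12] at hle₂
  by_cases hf2 : U₁.card + U₂.card + 1 = N
  · exfalso
    have q₁ := hquarter hm₁ hN₁ hw₁
    have q₂ := hquarter hm₂ hN₂ hw₂
    rcases hN₁ with a | a <;> rcases hN₂ with b | b
    · have := q₁.2 a; have := q₂.2 b; omega
    · exact hnot (a := 2) (b := 1) (arith_two hk₁ hk₂ hm₁ hm₂ a b (by rw [← hw₁, ← hw₂]; exact hf2))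
    · exact hnot (a := 2) (b := 1) (arith_two hk₂ hk₁ hm₂ hm₁ b a (by omega))
    · obtain ⟨m, rfl⟩ := Nat.exists_eq_add_of_le hm₁
      obtain ⟨n, rfl⟩ := Nat.exists_eq_add_of_le hm₂
      rw [show 2 + m - 1 = m + 1 by omega] at hw₁
      rw [show 2 + n - 1 = n + 1 by omega] at hw₂
      nlinarith
  obtain ⟨g₃, h3', hg₃⟩ := hex (U₁ ∪ U₂) (Finset.union_subset (hsub g₁) (hsub g₂))
    (by rw [Finset.card_union_of_disjoint hd12]; omega)
  rw [Finset.mem_union, not_or] at hg₃
  obtain ⟨k₃, m₃, hk₃, hm₃, hN₃, hw₃⟩ := hpr g₃ h3'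
  set U₃ := conjUnion (fixStab ρ g₃) with hU₃
  have hd123 : Disjoint (U₁ ∪ U₂) U₃ :=
    Finset.disjoint_union_left.2 ⟨hdis g₁ g₃ h1 h3' hg₃.1, hdis g₂ g₃ h2 h3' hg₃.2⟩
  have hs3 := Finset.union_subset (Finset.union_subset (hsub g₁) (hsub g₂)) (hsub g₃)
  have hle₃ := hcard _ hs3
  have hc3 : (U₁ ∪ U₂ ∪ U₃).card = U₁.card + U₂.card + U₃.card := by
    rw [Finset.card_union_of_disjoint hd123, Finset.card_union_of_disjoint hd12]
  rw [hc3] at hle₃
  have q₁ := hquarter hm₁ hN₁ hw₁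
  have q₂ := hquarter hm₂ hN₂ hw₂
  have q₃ := hquarter hm₃ hN₃ hw₃
  by_cases hf3 : U₁.card + U₂.card + U₃.card + 1 = N
  swap
  · exfalso
    obtain ⟨g₄, h4, hg₄⟩ := hex _ hs3 (by rw [hc3]; omega)
    rw [Finset.mem_union, Finset.mem_union, not_or, not_or] at hg₄
    obtain ⟨k₄, m₄, hk₄, hm₄, hN₄, hw₄⟩ := hpr g₄ h4
    have q₄ := hquarter hm₄ hN₄ hw₄
    have hd4 : Disjoint (U₁ ∪ U₂ ∪ U₃) (conjUnion (fixStab ρ g₄)) :=
      Finset.disjoint_union_left.2 ⟨Finset.disjoint_union_left.2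
        ⟨hdis g₁ g₄ h1 h4 hg₄.1.1, hdis g₂ g₄ h2 h4 hg₄.1.2⟩, hdis g₃ g₄ h3' h4 hg₄.2⟩
    have hle₄ := hcard _ (Finset.union_subset hs3 (hsub g₄))
    rw [Finset.card_union_of_disjoint hd4, hc3] at hle₄
    omega
  have a₁ : 2 * (k₁ * m₁) = N := hN₁.resolve_left fun a => by have := q₁.2 a; omega
  have a₂ : 2 * (k₂ * m₂) = N := hN₂.resolve_left fun a => by have := q₂.2 a; omega
  have a₃ : 2 * (k₃ * m₃) = N := hN₃.resolve_left fun a => by have := q₃.2 a; omega
  have hs : 2 * k₁ + 2 * k₂ + 2 * k₃ = N + 2 := by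
    rw [hw₁, hw₂, hw₃] at hf3
    have r : ∀ k m : ℕ, 2 ≤ m → k * (m - 1) + k = k * m := fun k m hm => by
      obtain ⟨m, rfl⟩ := Nat.exists_eq_add_of_le (le_trans one_le_two hm)
      rw [Nat.add_sub_cancel_left]; ring
    have := r k₁ m₁ hm₁; have := r k₂ m₂ hm₂; have := r k₃ m₃ hm₃
    omega
  have key : ∀ k l j m n q : ℕ, 2 ≤ k → 2 ≤ l → 2 ≤ j → 2 ≤ m → m ≤ n → n ≤ q → 2 * (k * m) = N →
      2 * (l * n) = N → 2 * (j * q) = N → 2 * k + 2 * l + 2 * j = N + 2 → N = 60 := by
    intro k l j m n q hk hl hj hm hmn hnq e1 e2 e3 hsum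
    rcases CfsgLib.Dickson.tame_arith hsum (by rw [mul_assoc]; exact e1) (by rw [mul_assoc]; exact e2)
      (by rw [mul_assoc]; exact e3) hm hmn hnq with e | ⟨e, -⟩ | ⟨e, -⟩ | ⟨e, -⟩
    · omega
    · exact (hnot (a := 2) (b := 1) e).elim
    · exact (hnot (a := 3) (b := 1) e).elim
    · exact e
  rcases le_total m₁ m₂ with u | u <;> rcases le_total m₁ m₃ with v | v <;>
    rcases le_total m₂ m₃ with w | w <;>
    first
      | exact key k₁ k₂ k₃ m₁ m₂ m₃ hk₁ hk₂ hk₃ hm₁ (by omega) (by omega) a₁ a₂ a₃ hs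
      | exact key k₁ k₃ k₂ m₁ m₃ m₂ hk₁ hk₃ hk₂ hm₁ (by omega) (by omega) a₁ a₃ a₂ (by omega)
      | exact key k₂ k₁ k₃ m₂ m₁ m₃ hk₂ hk₁ hk₃ hm₂ (by omega) (by omega) a₂ a₁ a₃ (by omega)
      | exact key k₂ k₃ k₁ m₂ m₃ m₁ hk₂ hk₃ hk₁ hm₂ (by omega) (by omega) a₂ a₃ a₁ (by omega)
      | exact key k₃ k₁ k₂ m₃ m₁ m₂ hk₃ hk₁ hk₂ hm₃ (by omega) (by omega) a₃ a₁ a₂ (by omega)
      | exact key k₃ k₂ k₁ m₃ m₂ m₁ hk₃ hk₂ hk₁ hm₃ (by omega) (by omega) a₃ a₂ a₁ (by omega)

end CfsgLib.Char.FourDrop
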