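import Cfsg.Agent.Char.FourDrop.Fibre
import Cfsg.Agent.Char.FourDrop.Pole
import Cfsg.Agent.Char.TwoClass
import Cfsg.Agent.Dickson.OrderSixty

/-!
# The quotient by the kernel of a three-dimensional character
-/

set_option autoImplicit false
set_option linter.style.haveILetI false
set_option linter.unusedSectionVars false

namespace CfsgLib.Char.FourDrop

open scoped ComplexConjugate
open CfsgLib.ConstantDrop (Hyp)

universe u

variable {G : Type u} [Group G] [Finite G] {x : G}

theorem threes_nonempty (hx : x ≠ 1) (h : Hyp x 4) : ∃ χ : G → ℂ, IsThree x χ := by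
  classical
  by_contra hno
  have h1 := congrArg Complex.re (CfsgLib.ConstantDrop.col_sum (G := G) hx)
  rw [Complex.re_sum] at h1
  have : (0 : ℝ) ≤ ∑ χ ∈ (irrFinset G).erase fun _ => 1, (χ 1 * conj (χ x)).re :=
    Finset.sum_nonneg fun χ hχ => by
      rw [Finset.mem_erase, mem_irrFinset] at hχ
      exact weight_re_nonneg hx h hχ.2 hχ.1 fun e => hno ⟨χ, e⟩
  rw [h1] at this
  norm_num at this

/-- At most three characters of degree three: then the centraliser has order four. -/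
theorem card_centralizer_eq_four (hx : x ≠ 1) (h : Hyp x 4) (hT : (threes x).card ≤ 3) :
    Nat.card (Subgroup.centralizer ({x} : Set G)) = 4 := by
  classical
  haveI := Fintype.ofFinite G
  obtain ⟨χ, hχ⟩ := threes_nonempty hx h
  obtain ⟨hi, h1, hv⟩ := hχ.five_irr hx h (threes_real hx h hχ)
  set S := (irrFinset G).erase fun _ : G => (1 : ℂ)
  have hsum : -3 * ((threes x).card : ℝ) + ∑ ψ ∈ S \ threes x, (ψ 1 * conj (ψ x)).re = -1 := by
    convert threes_sum_eq (G := G) hx
  have hfive : five χ ∈ S \ threes x := by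
    refine Finset.mem_sdiff.2 ⟨Finset.mem_erase.2 ⟨fun e => ?_, mem_irrFinset.2 hi⟩, fun e => ?_⟩
    · rw [e] at h1; norm_num at h1
    · rw [(mem_threes.1 e).2.1] at h1; norm_num at h1
  have hrest : ∀ ψ ∈ (S \ threes x).erase (five χ),
      ψ x = 0 ∨ 5 ≤ (ψ 1 * conj (ψ x)).re := by
    intro ψ hψ
    simp only [S, Finset.mem_erase, Finset.mem_sdiff, mem_irrFinset, mem_threes] at hψ
    rcases value_cases hx h hψ.2.1.2 hψ.2.1.1 with e | e | ⟨n, h5, e1, e⟩
    · exact absurd e hψ.2.2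
    · exact Or.inl e
    · right
      rw [e1, e, ← Nat.cast_ofNat (R := ℂ) (n := 4), ← Nat.cast_sub (show 4 ≤ n by omega),
        Complex.conj_natCast, ← Nat.cast_mul, Complex.natCast_re]
      exact_mod_cast (Nat.le_mul_of_pos_right n (by omega)).trans' h5
  rw [← Finset.add_sum_erase _ _ hfive, show (five χ 1 * conj (five χ x)).re = (5 : ℝ) by simp [h1, hv]]
    at hsum
  have hnn : ∀ ψ ∈ (S \ threes x).erase (five χ), 0 ≤ (ψ 1 * conj (ψ x)).re := fun ψ hψ => by
    rcases hrest ψ hψ with e | e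
    · simp [e]
    · linarith
  have hT' : ((threes x).card : ℝ) ≤ 3 := by exact_mod_cast hT
  have hzero : ∀ ψ ∈ (S \ threes x).erase (five χ), ψ x = 0 := fun ψ hψ => by
    refine (hrest ψ hψ).resolve_right fun e => ?_
    have := Finset.single_le_sum hnn hψ
    linarith
  rw [Finset.sum_eq_zero fun ψ hψ => by simp [hzero ψ hψ], add_zero] at hsum
  have hT2 : (threes x).card = 2 := by exact_mod_cast (by linarith : ((threes x).card : ℝ) = 2)
  have h2 := sum_irr_mul_conj x x
  rw [if_pos (IsConj.refl x), ← Finset.add_sum_erase _ _ (mem_irrFinset.2 (isIrrCharacter_one (G := G))),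
    ← Finset.sum_sdiff (s₁ := threes x) (s₂ := S) (by unfold threes; intro ψ hψ; convert (Finset.mem_filter.1 hψ).1),
    ← Finset.add_sum_erase _ _ hfive, Finset.sum_eq_zero fun ψ hψ => by simp [hzero ψ hψ],
    Finset.sum_congr rfl fun ψ hψ => show ψ x * conj (ψ x) = (1 : ℂ) by simp [(mem_threes.1 hψ).2.2],
    Finset.sum_const, hT2, hv] at h2
  simp only [map_one, mul_one, add_zero, nsmul_eq_mul] at h2
  norm_num [-Nat.card_eq_fintype_card] at h2
  exact_mod_cast h2.symm

theorem mem_conjClass_card {H : Type*} [Group H] [Finite H] (y : H) {n : ℕ}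
    (h : Nat.card (Subgroup.centralizer ({y} : Set H)) = n) :
    Nat.card {z : H // IsConj y z} * n = Nat.card H :=
  h ▸ card_conj_class_mul_card_centralizer y

theorem alternating_five_facts :
    ((Finset.univ : Finset (alternatingGroup (Fin 5))).filter fun s => s ≠ 1 ∧ s * s = 1).card = 15 ∧
      ∀ s : alternatingGroup (Fin 5), s ^ 4 = 1 → s * s = 1 := by
  refine ⟨?_, ?_⟩ <;> decide +kernel

/-- In a quotient of order sixty the element becomes an involution, and so do no other classes. -/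
theorem involutions_conj {Q : Type*} [Group Q] [Finite Q] {y : Q}
    (e : Q ≃* alternatingGroup (Fin 5)) (hy : y ≠ 1) (hC : Nat.card (Subgroup.centralizer ({y} : Set Q)) = 4) :
    y * y = 1 ∧ ∀ z : Q, z ≠ 1 → z * z = 1 → IsConj y z := by
  classical
  haveI := Fintype.ofFinite Q
  obtain ⟨hcount, hfour⟩ := alternating_five_facts
  have hy4 : y ^ 4 = 1 := by
    have := Subgroup.orderOf_dvd_natCard _
      (Subgroup.mem_centralizer_singleton_iff.2 (rfl : y * y = y * y))
    rw [hC] at this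
    exact orderOf_dvd_iff_pow_eq_one.1 this
  have hyy : y * y = 1 := e.injective (by
    rw [map_mul, map_one]; exact hfour _ (by rw [← map_pow, hy4, map_one]))
  refine ⟨hyy, ?_⟩
  have hcls := mem_conjClass_card y hC
  rw [Nat.card_congr e.toEquiv, show Nat.card (alternatingGroup (Fin 5)) = 60 by
    rw [nat_card_alternatingGroup, Nat.card_fin]; rfl] at hcls
  have hinv : Nat.card {z : Q // z ≠ 1 ∧ z * z = 1} = 15 := by
    rw [← hcount, ← Fintype.card_subtype, ← Nat.card_eq_fintype_card]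
    refine Nat.card_congr (e.toEquiv.subtypeEquiv fun z => ?_)
    simp only [MulEquiv.toEquiv_eq_coe, EquivLike.coe_coe, ne_eq, EmbeddingLike.map_eq_one_iff,
      ← map_mul]
  have hsub : ∀ z : Q, IsConj y z → z ≠ 1 ∧ z * z = 1 := fun z hz => by
    obtain ⟨a, rfl⟩ := isConj_iff.1 hz
    refine ⟨by rwa [Ne, conj_eq_one_iff], ?_⟩
    rw [show a * y * a⁻¹ * (a * y * a⁻¹) = a * (y * y) * a⁻¹ by group, hyy, mul_one, mul_inv_cancel]
  intro z hz1 hz
  have hset : {z : Q | IsConj y z} = {z : Q | z ≠ 1 ∧ z * z = 1} := by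
    refine Set.eq_of_subset_of_ncard_le hsub ?_ (Set.toFinite _)
    rw [← Nat.card_coe_set_eq, ← Nat.card_coe_set_eq]
    change Nat.card {z : Q // z ≠ 1 ∧ z * z = 1} ≤ Nat.card {z : Q // IsConj y z}
    omega
  exact (Set.ext_iff.1 hset z).2 ⟨hz1, hz⟩

/-- The facts about the kernel of a three-dimensional character. -/
theorem quotient_spec (hx : x ≠ 1) (h : Hyp x 4) :
    ∃ K : Subgroup G, ∃ _ : K.Normal, Nonempty (G ⧸ K ≃* alternatingGroup (Fin 5)) ∧
      (x : G ⧸ K) ≠ 1 ∧ (x : G ⧸ K) * (x : G ⧸ K) = 1 ∧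
      Nat.card (Subgroup.centralizer ({x} : Set G)) = 4 ∧
      ∀ y : G, (y : G ⧸ K) ≠ 1 → (y : G ⧸ K) * (y : G ⧸ K) = 1 → IsConj x y := by
  classical
  haveI := Fintype.ofFinite G
  obtain ⟨χ, hχ⟩ := threes_nonempty hx h
  have hχc := IsIrrCharacter.isCharacter hχ.1
  set K := kerSubgroup hχc
  haveI hKn : K.Normal := kerSubgroup_normal hχc
  haveI := Fintype.ofFinite (G ⧸ K)
  obtain ⟨σ, hσ, hσχ⟩ := CfsgLib.Char.TwoClass.exists_deflate (N := K) hχ.1 fun y hy => hy
  have hinfl : ∀ ψ : G ⧸ K → ℂ, Cfsg.IsIrrCharacter (G ⧸ K) ψ → Cfsg.IsIrrCharacter G fun g => ψ g :=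
    fun ψ hψ => IsIrrCharacter.comp_surjective hψ (QuotientGroup.mk' K) (QuotientGroup.mk'_surjective K)
  have hxK : (x : G ⧸ K) ≠ 1 := fun e => by
    have := (mem_kerSubgroup hχc x).1 ((QuotientGroup.eq_one_iff x).1 e)
    rw [hχ.2.1, hχ.2.2] at this
    norm_num at this
  have hQ : Hyp (x : G ⧸ K) 4 := fun ψ hne => by
    refine h ⟨fun g => ψ.1 g, hinfl ψ.1 ψ.2⟩ fun e => hne (funext fun q => ?_)
    obtain ⟨g, rfl⟩ := QuotientGroup.mk_surjective q
    exact congrFun e g
  have hσ3 : IsThree (x : G ⧸ K) σ := by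
    refine ⟨hσ, ?_, ?_⟩
    · rw [← hχ.2.1, hσχ]; rfl
    · rw [← hχ.2.2, hσχ]
  have hσr := threes_real hxK hQ hσ3
  have h60 : Nat.card (G ⧸ K) = 60 := by
    refine card_eq_sixty (perfect hxK hQ) hσ hσ3.2.1 (fun g => congrFun hσr g) fun q hq => ?_
    obtain ⟨g, rfl⟩ := QuotientGroup.mk_surjective q
    refine (QuotientGroup.eq_one_iff g).2 ((mem_kerSubgroup hχc g).2 ?_)
    rw [hχ.2.1, hσχ]; exact hq
  have hTQ : (threes (x : G ⧸ K)).card ≤ 3 := by
    obtain ⟨hi, h1, -⟩ := hσ3.five_irr hxK hQ hσr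
    have hnot : five σ ∉ threes (x : G ⧸ K) := fun e => by
      rw [(mem_threes.1 e).2.1] at h1; norm_num at h1
    have hsub : insert (five σ) (threes (x : G ⧸ K)) ⊆ irrFinset (G ⧸ K) := fun ψ hψ => by
      rcases Finset.mem_insert.1 hψ with rfl | e
      · exact mem_irrFinset.2 hi
      · exact mem_irrFinset.2 (mem_threes.1 e).1
    have hnn : ∀ ψ ∈ irrFinset (G ⧸ K), 0 ≤ (ψ 1 ^ 2).re := fun ψ hψ => by
      obtain ⟨n, -, hn⟩ := IsIrrCharacter.exists_degree (mem_irrFinset.1 hψ)
      rw [hn, ← Nat.cast_pow, Complex.natCast_re]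
      positivity
    have hle := Finset.sum_le_sum_of_subset_of_nonneg hsub fun ψ hψ _ => hnn ψ hψ
    rw [← Complex.re_sum (irrFinset (G ⧸ K)), sum_degree_sq, h60, Finset.sum_insert hnot, h1,
      Finset.sum_congr rfl fun ψ hψ => show (ψ 1 ^ 2).re = (9 : ℝ) by simp [(mem_threes.1 hψ).2.1]; norm_num,
      Finset.sum_const, nsmul_eq_mul] at hle
    have : ((threes (x : G ⧸ K)).card : ℝ) < 4 := by
      norm_num at hle
      linarith
    exact Nat.lt_succ_iff.1 (by exact_mod_cast this)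
  have hinflated : ∀ θ : G → ℂ, IsThree x θ → ∀ y ∈ K, θ y = θ 1 := by
    intro θ hθ y hy
    have hr := threes_real hx h hθ
    have hf := five_eq hx h hχ hθ (threes_real hx h hχ) hr
    have key : ∀ w ∈ K, θ w * θ w - θ w - 1 = 5 := fun w hw => by
      have := congrFun hf w
      simp only [five, sq, Pi.sub_apply, Pi.mul_apply, show conj (θ w) = θ w from congrFun hr w, ((mem_kerSubgroup hχc w).1 hw).trans hχ.2.1] at this
      rw [← this, map_ofNat]; norm_num
    have h2 := key (y * y) (mul_mem hy hy)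
    have hc := (isCharacter_sq_sub (perfect hx h) hθ.1 hθ.2.1).2 y
    rw [show conj (θ y) = θ y from congrFun hr y] at hc
    have h6 : (θ y - 3) * (θ y + 2) = 0 := by linear_combination key y hy
    rcases mul_eq_zero.1 h6 with e | e
    · rw [hθ.2.1]; linear_combination e
    · exfalso
      have ey : θ y = -2 := by linear_combination e
      have ey2 : θ (y * y) = 8 := by rw [ey] at hc; linear_combination 2 * hc
      rw [ey2] at h2
      norm_num at h2
  have hTG : (threes x).card ≤ (threes (x : G ⧸ K)).card := by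
    refine le_trans (Finset.card_le_card (t := (threes (x : G ⧸ K)).image fun ψ => fun g : G => ψ g) ?_)
      Finset.card_image_le
    intro θ hθ
    have hθ' := mem_threes.1 hθ
    obtain ⟨τ, hτ, rfl⟩ := CfsgLib.Char.TwoClass.exists_deflate (N := K) hθ'.1 (hinflated θ hθ')
    exact Finset.mem_image.2 ⟨τ, mem_threes.2 ⟨hτ, hθ'.2.1, hθ'.2.2⟩, rfl⟩
  have hCG := card_centralizer_eq_four hx h (hTG.trans hTQ)
  have hCQ := card_centralizer_eq_four hxK hQ hTQ
  haveI : Fact (Nat.Prime 5) := ⟨by norm_num⟩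
  obtain ⟨P⟩ : Nonempty (Sylow 5 (G ⧸ K)) := Sylow.nonempty
  have hn : ¬ (P : Subgroup (G ⧸ K)).Normal := fun hn => by
    have h5 := CfsgLib.Dickson.OrderSixty.card_eq_five h60 P
    haveI := hn
    have h12 : Nat.card ((G ⧸ K) ⧸ (P : Subgroup (G ⧸ K))) = 2 ^ 2 * 3 ^ 1 := by
      have := (P : Subgroup (G ⧸ K)).card_mul_index
      rw [h5, h60] at this
      change (P : Subgroup (G ⧸ K)).index = _
      omega
    haveI := isSolvable_of_card_eq 2 3 2 1 Nat.prime_two Nat.prime_three h12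
    haveI : Group.IsSolvable (P : Subgroup (G ⧸ K)) :=
      isSolvable_of_card_eq 5 3 1 0 (by norm_num) Nat.prime_three (by simpa using h5)
    haveI : Group.IsSolvable (G ⧸ K) := Group.isSolvable_of_ker_le_range (P : Subgroup (G ⧸ K)).subtype
      (QuotientGroup.mk' (P : Subgroup (G ⧸ K))) (by rw [QuotientGroup.ker_mk', Subgroup.range_subtype])
    haveI : Nontrivial (G ⧸ K) := Finite.one_lt_card_iff_nontrivial.1 (by omega)
    exact (Group.IsSolvable.commutator_lt_top_of_nontrivial (G ⧸ K)).ne (perfect hxK hQ)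
  obtain ⟨e⟩ := CfsgLib.Dickson.OrderSixty.nonempty_mulEquiv h60 P hn
  obtain ⟨hxx, hall⟩ := involutions_conj e hxK hCQ
  refine ⟨K, hKn, ⟨e⟩, hxK, hxx, hCG, fun y hy1 hy => ?_⟩
  have hclG := mem_conjClass_card x hCG
  have hclQ := mem_conjClass_card (x : G ⧸ K) hCQ
  have hsub : {z : G | IsConj x z} ⊆ QuotientGroup.mk ⁻¹' {q : G ⧸ K | IsConj (x : G ⧸ K) q} :=
    fun z hz => MonoidHom.map_isConj (QuotientGroup.mk' K) hz
  have hcard : (QuotientGroup.mk ⁻¹' {q : G ⧸ K | IsConj (x : G ⧸ K) q}).ncard ≤ {z : G | IsConj x z}.ncard := by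
    rw [← Nat.card_coe_set_eq, Nat.card_congr (QuotientGroup.preimageMkEquivSubgroupProdSet K _),
      Nat.card_prod, ← Nat.card_coe_set_eq]
    change Nat.card K * Nat.card {q : G ⧸ K // IsConj (x : G ⧸ K) q} ≤ Nat.card {z : G // IsConj x z}
    rw [K.card_eq_card_quotient_mul_card_subgroup, h60] at hclG
    rw [h60] at hclQ
    nlinarith
  have := Set.eq_of_subset_of_ncard_le hsub hcard (Set.toFinite _)
  exact (Set.ext_iff.1 this y).2 (hall _ hy1 hy)

end CfsgLib.Char.FourDrop
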